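import Groth.Agent.L25.NhdEq.Torsion

/-!
# The locus where two subgroups of multiplicative type coincide
-/

set_option autoImplicit false
universe u

open CategoryTheory CategoryTheory.Limits MonoidalCategory CartesianMonoidalCategory MonObj GrpObj
open AlgebraicGeometry

set_option backward.isDefEq.respectTransparency.types false

noncomputable section

namespace Groth.L25.NhdEq

open Groth.L25.Cocycle

variable {S : Scheme.{u}}

section Family

variable {R : Type u} [CommRing R] {j : Spec (CommRingCat.of R) ⟶ S} {H H' : Over S} [GrpObj H] [GrpObj H']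

theorem exists_family_ft (hH : SGA3x.IsMultTypeFT H) :
    ∃ F : Family j H, ∀ i, Monoid.FG (F.M i) := by
  obtain ⟨S', f, hflat, hsurj, hqc, hloc⟩ := hH
  obtain ⟨W, hW, hWimg⟩ := MultTypeBC.exists_compact_image f hqc j ⊤ (isAffineOpen_top _)
  let P : Scheme.{u} := pullback j f
  choose U hU M inst hfg e using hloc
  have key : ∀ z : P, ∃ D : P.Opens, IsAffineOpen D ∧ z ∈ D ∧ D ≤ pullback.snd j f ⁻¹ᵁ U (pullback.snd j f z) := by
    intro z
    obtain ⟨_, ⟨D, hD, rfl⟩, hz, hle⟩ := P.isBasis_affineOpens.exists_subset_of_mem_open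
      (show z ∈ pullback.snd j f ⁻¹ᵁ U (pullback.snd j f z) from hU _) (pullback.snd j f ⁻¹ᵁ U (pullback.snd j f z)).2
    exact ⟨D, hD, hz, hle⟩
  choose D hD hzD hDle using key
  obtain ⟨t, ht⟩ := hW.elim_finite_subcover (fun z : P => (D z : Set P)) (fun z => (D z).2)
    (fun z _ => Set.mem_iUnion.2 ⟨z, hzD z⟩)
  choose θ hθ using fun i : t => Spec.map_surjective ((hD i.1).fromSpec ≫ pullback.fst j f)
  have hr : ∀ i : t, Set.range (((hD i.1).fromSpec ≫ pullback.snd j f)) ⊆
      Set.range (U (pullback.snd j f i.1)).ι := by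
    intro i
    rw [Scheme.Opens.range_ι]
    rintro _ ⟨q, rfl⟩
    exact hDle i.1 ((hD i.1).range_fromSpec.le ⟨q, rfl⟩)
  refine ⟨{
    idx := t
    fin := inferInstance
    C := fun i => Γ(P, D i.1)
    ring := fun i => inferInstance
    θ := fun i => (θ i).hom
    M := fun i => Multiplicative (M (pullback.snd j f i.1))
    grp := fun i => letI := inst (pullback.snd j f i.1); inferInstance
    chart := fun i => letI := inst (pullback.snd j f i.1)
      Chart.ofSplit ((U (pullback.snd j f i.1)).ι ≫ f) (IsOpenImmersion.lift _ _ (hr i))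
        (by rw [IsOpenImmersion.lift_fac_assoc, Category.assoc, ← pullback.condition, ← Category.assoc, ← hθ]; rfl)
        (e (pullback.snd j f i.1)).some
    flat := fun i => by
      show Flat (Spec.map (θ i))
      rw [hθ]
      infer_instance
    surj := fun x => ?_ }, fun i => by
      letI := inst (pullback.snd j f i.1)
      have h1 : AddMonoid.FG (M (pullback.snd j f i.1)) :=
        AddGroup.fg_iff_addMonoid_fg.1 (hfg (pullback.snd j f i.1))
      exact (AddMonoid.fg_iff_mul_fg (M := M (pullback.snd j f i.1))).1 h1⟩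
  obtain ⟨z, hz, rfl⟩ := hWimg.ge (Set.mem_univ x)
  obtain ⟨i, hi, hzi⟩ := Set.mem_iUnion₂.1 (ht hz)
  obtain ⟨q, rfl⟩ := (hD i).range_fromSpec.ge hzi
  refine ⟨⟨i, hi⟩, q, ?_⟩
  show Spec.map (θ ⟨i, hi⟩) q = _
  rw [hθ]
  rfl

theorem exists_pair_ft (hH : SGA3x.IsMultTypeFT H) (hH' : SGA3x.IsMultTypeFT H') :
    ∃ P : Pair j H H', ∀ i, Monoid.FG (P.M i) ∧ Monoid.FG (P.N i) := by
  obtain ⟨F, hF⟩ := exists_family_ft (j := j) hH
  choose F' hF' using fun i => exists_family_ft (j := Spec.map (CommRingCat.ofHom (F.θ i)) ≫ j) hH'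
  have hj : ∀ (x : Σ i, (F' i).idx),
      Spec.map (CommRingCat.ofHom ((F' x.1).θ x.2)) ≫ Spec.map (CommRingCat.ofHom (F.θ x.1)) ≫ j =
        Spec.map (CommRingCat.ofHom (((F' x.1).θ x.2).comp (F.θ x.1))) ≫ j := fun x => by
    rw [← Spec.map_comp_assoc]; rfl
  refine ⟨{
    idx := Σ i, (F' i).idx
    fin := inferInstance
    C := fun x => (F' x.1).C x.2
    ring := fun x => inferInstance
    θ := fun x => ((F' x.1).θ x.2).comp (F.θ x.1)
    M := fun x => F.M x.1
    N := fun x => (F' x.1).M x.2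
    grpM := fun x => inferInstance
    grpN := fun x => inferInstance
    chart := fun x => (F.chart x.1).restrict ((F' x.1).θ x.2) (hj x)
    chart' := fun x => ((F' x.1).chart x.2).restrict (RingHom.id _)
      (by rw [CommRingCat.ofHom_id, Spec.map_id, Category.id_comp]; exact hj x)
    flat := fun x => by
      rw [CommRingCat.ofHom_comp, Spec.map_comp]
      have := F.flat x.1
      have := (F' x.1).flat x.2
      infer_instance
    surj := fun x => ?_ }, fun x => ⟨hF x.1, hF' x.1 x.2⟩⟩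
  obtain ⟨i, y, rfl⟩ := F.surj x
  obtain ⟨k, z, rfl⟩ := (F' i).surj y
  refine ⟨⟨i, k⟩, z, ?_⟩
  rw [CommRingCat.ofHom_comp, Spec.map_comp, Scheme.Hom.comp_apply]

end Family

section ToBC

variable {R : Type u} [CommRing R] {j : Spec (CommRingCat.of R) ⟶ S} {H : Over S} [GrpObj H]
  {M : Type} [CommGroup M]

/-- comparison of the points over the two bases -/
def adBC (j : Spec (CommRingCat.of R) ⟶ S) (C : Type u) [CommRing C] [Algebra R C] :
    Over.mk ((X (𝟙 (Spec (CommRingCat.of R))) C).hom ≫ j) ⟶ X j C :=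
  Over.homMk (𝟙 _) (by
    show 𝟙 _ ≫ Spec.map _ ≫ j = (Spec.map _ ≫ 𝟙 _) ≫ j
    rw [Category.id_comp, Category.comp_id])

/-- comparison in the other direction -/
def adBC' (j : Spec (CommRingCat.of R) ⟶ S) (C : Type u) [CommRing C] [Algebra R C] :
    X j C ⟶ Over.mk ((X (𝟙 (Spec (CommRingCat.of R))) C).hom ≫ j) :=
  Over.homMk (𝟙 _) (by
    show 𝟙 _ ≫ (Spec.map _ ≫ 𝟙 _) ≫ j = Spec.map _ ≫ j
    rw [Category.id_comp, Category.comp_id])

theorem adBC_adBC' (C : Type u) [CommRing C] [Algebra R C] : adBC j C ≫ adBC' j C = 𝟙 _ :=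
  Over.OverMorphism.ext (Category.id_comp _)

theorem adBC'_adBC (C : Type u) [CommRing C] [Algebra R C] : adBC' j C ≫ adBC j C = 𝟙 _ :=
  Over.OverMorphism.ext (Category.id_comp _)

/-- a chart of the base change -/
def toBC (e : Chart j H M) : Chart (𝟙 (Spec (CommRingCat.of R))) (Red.bc j H) M where
  pt {C} _ _ χ := NilAction.ofBase j (adBC j C ≫ e.pt χ)
  pt_mul {C} _ _ χ ψ := by
    have h1 := congrArg (NilAction.ofBase j) (NilAction.toBase_mul j
      (NilAction.ofBase j (adBC j C ≫ e.pt χ)) (NilAction.ofBase j (adBC j C ≫ e.pt ψ)))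
    rw [NilAction.ofBase_toBase, NilAction.toBase_ofBase, NilAction.toBase_ofBase, ← MonObj.comp_mul,
      ← e.pt_mul] at h1
    exact h1.symm
  bij C _ _ := by
    refine ⟨fun χ ψ h => ?_, fun g => ?_⟩
    · have h1 := congrArg (fun z => adBC' j C ≫ NilAction.toBase j z) h
      simp only [NilAction.toBase_ofBase, ← Category.assoc, adBC'_adBC, Category.id_comp] at h1
      exact (e.bij C).1 h1
    · obtain ⟨χ, hχ⟩ := (e.bij C).2 (adBC' j C ≫ NilAction.toBase j g)
      refine ⟨χ, ?_⟩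
      simp only [hχ, ← Category.assoc, adBC_adBC', Category.id_comp]
      exact NilAction.ofBase_toBase j g
  nat {C D} _ _ _ _ h χ := by
    apply Over.OverMorphism.ext
    apply pullback.hom_ext
    · have h1 := congrArg (fun z => z.left) (e.nat h χ)
      simp only [mor, adBC, NilAction.ofBase, Over.comp_left, Over.homMk_left, Category.assoc,
        pullback.lift_fst, Category.id_comp] at h1 ⊢
      exact h1
    · simp only [Over.comp_left, Category.assoc]
      rw [show ∀ (Y : Over (Spec (CommRingCat.of R))) (z : Y ⟶ Red.bc j H),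
        z.left ≫ pullback.snd H.hom j = Y.hom from fun Y z => Over.w z]
      rw [show ∀ (Y : Over (Spec (CommRingCat.of R))) (z : Y ⟶ Red.bc j H),
        z.left ≫ pullback.snd H.hom j = Y.hom from fun Y z => Over.w z]
      exact Over.w (mor _ h)

end ToBC

variable {H₁ H₂ G : Over S} [GrpObj H₁] [GrpObj H₂] [GrpObj G]
  (i₁ : H₁ ⟶ G) [IsMonHom i₁] (i₂ : H₂ ⟶ G) [IsMonHom i₂] [IsImmersion i₂.left]

/-- torsion landing at a point gives everything at that point -/
theorem fac_of_torsion_field {L : Type u} [Field L] {jL : Spec (CommRingCat.of L) ⟶ S} {M : Type}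
    [CommGroup M] [Monoid.FG M] (e : Chart jL H₁ M)
    (hT : ∀ n : ℕ, 0 < n → ∀ (C : Type u) [CommRing C] [Algebra L C], TorLands e i₁ i₂ n C)
    (X : Over S) (w : X.left ⟶ Spec (CommRingCat.of L)) (hw : w ≫ jL = X.hom) (h : X ⟶ H₁) :
    ∃ h' : X ⟶ H₂, h' ≫ i₂ = h ≫ i₁ := by
  let eL := toBC e
  let u₁ := (Over.pullback jL).map i₁
  let u₂ := (Over.pullback jL).map i₂
  have : IsImmersion u₂.left := by
    have hsq : IsPullback u₂.left (pullback.fst H₂.hom jL) (pullback.fst G.hom jL) i₂.left := by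
      refine IsPullback.of_right ?_ (pullback.lift_fst _ _ _) (IsPullback.of_hasPullback G.hom jL).flip
      show IsPullback (u₂.left ≫ (Red.bc jL G).hom) _ _ (i₂.left ≫ G.hom)
      rw [Over.w, Over.w]
      exact (IsPullback.of_hasPullback H₂.hom jL).flip
    exact MorphismProperty.of_isPullback hsq.flip inferInstance
  have hT' : ∀ n : ℕ, 0 < n → ∀ (C : Type u) [CommRing C] [Algebra L C], TorLands eL u₁ u₂ n C := by
    intro n hn C _ _ χ hχ
    obtain ⟨h', hh⟩ := hT n hn C χ hχ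
    refine ⟨NilAction.ofBase jL (adBC jL C ≫ h'), ?_⟩
    rw [NilAction.ofBase_comp, Category.assoc, hh]
    show _ = NilAction.ofBase jL (adBC jL C ≫ e.pt χ) ≫ u₁
    rw [NilAction.ofBase_comp, Category.assoc]
  obtain ⟨m, hm⟩ := Locus.factors_of_cover i₂.left (h ≫ i₁).left fun y => by
    let P := X.left.affineCover.X (X.left.affineCover.idx y)
    let o : Spec Γ(P, ⊤) ⟶ X.left := P.isoSpec.inv ≫ X.left.affineCover.f (X.left.affineCover.idx y)
    refine ⟨_, o, inferInstance, ?_, ?_⟩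
    · obtain ⟨y', hy⟩ := X.left.affineCover.covers y
      obtain ⟨y'', rfl⟩ := P.isoSpec.inv.surjective y'
      exact ⟨y'', hy⟩
    let C : Type u := Γ(P, ⊤)
    obtain ⟨φ, hφ⟩ := Spec.map_surjective (o ≫ w)
    letI : Algebra L C := φ.hom.toAlgebra
    let c : Over.mk ((Cocycle.X (𝟙 (Spec (CommRingCat.of L))) C).hom ≫ jL) ⟶ X := Over.homMk o (by
      show o ≫ X.hom = (Spec.map φ ≫ 𝟙 _) ≫ jL
      rw [Category.comp_id, hφ, ← hw]
      exact (Category.assoc _ _ _).symm)
    obtain ⟨χ, hχ⟩ := (eL.bij C).2 (NilAction.ofBase jL (c ≫ h))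
    obtain ⟨h', hh⟩ := lands_of_torsion u₁ u₂ eL hT' C χ
    rw [hχ, NilAction.ofBase_comp, Category.assoc] at hh
    refine ⟨(NilAction.toBase jL h').left, ?_⟩
    have h1 := congrArg (fun z => (NilAction.toBase jL z).left) hh
    rw [Locus.toBase_map, NilAction.toBase_ofBase] at h1
    exact h1
  exact ⟨Over.homMk m (by rw [← Over.w i₂, reassoc_of% hm]; exact Over.w (h ≫ i₁)), Over.OverMorphism.ext hm⟩

/-- inclusion at a point can be checked over an extension of the residue field -/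
theorem fac_descend {L : Type u} [Field L] {jL : Spec (CommRingCat.of L) ⟶ S}
    (hL : ∀ (X : Over S) (w : X.left ⟶ Spec (CommRingCat.of L)), w ≫ jL = X.hom → ∀ h : X ⟶ H₁,
      ∃ h' : X ⟶ H₂, h' ≫ i₂ = h ≫ i₁)
    (s : S) (hs : jL (IsLocalRing.closedPoint L) = s) (X : Over S) (w : X.left ⟶ Spec (S.residueField s))
    (hw : w ≫ S.fromSpecResidueField s = X.hom) (h : X ⟶ H₁) : ∃ h' : X ⟶ H₂, h' ≫ i₂ = h ≫ i₁ := by
  obtain ⟨g, hg⟩ : ∃ g : Spec (CommRingCat.of L) ⟶ Spec (S.residueField s),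
      g ≫ S.fromSpecResidueField s = jL := by
    subst hs
    exact ⟨Spec.map _, Scheme.descResidueField_stalkClosedPointTo_fromSpecResidueField L S jL⟩
  have : Surjective g := ⟨fun x => ⟨IsLocalRing.closedPoint L, Subsingleton.elim (α := PrimeSpectrum (S.residueField s)) _ _⟩⟩
  have : Flat g := by
    obtain ⟨φ, rfl⟩ := Spec.map_surjective g
    rw [HasRingHomProperty.Spec_iff (P := @Flat)]
    letI := φ.hom.toAlgebra
    exact Module.Flat.of_free
  have : IsAffineHom g := isAffineHom_of_isAffine g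
  let p := pullback.fst w g
  let X' : Over S := Over.mk (p ≫ X.hom)
  let c : X' ⟶ X := Over.homMk p rfl
  obtain ⟨h', hh⟩ := hL X' (pullback.snd w g) (by
    show pullback.snd w g ≫ jL = p ≫ X.hom
    rw [← hg, ← hw, pullback.condition_assoc]) (c ≫ h)
  obtain ⟨m, hm⟩ := Locus.factors_of_flat_surjective i₂.left (h ≫ i₁).left p h'.left
    (congrArg (fun z => z.left) hh)
  exact ⟨Over.homMk m (by rw [← Over.w i₂, reassoc_of% hm]; exact Over.w (h ≫ i₁)), Over.OverMorphism.ext hm⟩

section Main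

variable [IsImmersion i₁.left] (h₁ : SGA3x.IsMultTypeFT H₁) (h₂ : SGA3x.IsMultTypeFT H₂)

/-- both inclusions over a point -/
def EqAt (s : S) : Prop :=
  (∀ (X : Over S) (w : X.left ⟶ Spec (S.residueField s)), w ≫ S.fromSpecResidueField s = X.hom →
    ∀ h : X ⟶ H₁, ∃ h' : X ⟶ H₂, h' ≫ i₂ = h ≫ i₁) ∧
  ∀ (X : Over S) (w : X.left ⟶ Spec (S.residueField s)), w ≫ S.fromSpecResidueField s = X.hom →
    ∀ h : X ⟶ H₂, ∃ h' : X ⟶ H₁, h' ≫ i₁ = h ≫ i₂

theorem eqAt_iff (s : S) : EqAt i₁ i₂ s ↔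
    ∃ ψ : Red.bc (S.fromSpecResidueField s) H₁ ≅ Red.bc (S.fromSpecResidueField s) H₂,
      ψ.hom ≫ (Over.pullback (S.fromSpecResidueField s)).map i₂ = (Over.pullback (S.fromSpecResidueField s)).map i₁ := by
  have : Mono i₁ := Over.mono_of_mono_left i₁
  have : Mono i₂ := Over.mono_of_mono_left i₂
  refine ⟨fun h => iso_of_factors _ i₁ i₂ h.1 h.2, fun ⟨ψ, hψ⟩ => ⟨fun X w hw h => ?_, fun X w hw h => ?_⟩⟩
  · exact fac_of_map _ i₁ i₂ ψ.hom hψ X w hw h
  · exact fac_of_map _ i₂ i₁ ψ.inv (by rw [← hψ, Iso.inv_hom_id_assoc]) X w hw h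

include h₁ h₂ in
/-- the locus of coincidence is closed once it is open and coincidence spreads over it -/
theorem isClosed_eqLocus [IsSeparated G.hom] (U : S.Opens) (hU : ∀ s, s ∈ U ↔ EqAt i₁ i₂ s)
    (h12 : ∀ (X : Over S), Set.range X.hom ⊆ (U : Set S) → ∀ h : X ⟶ H₁, ∃ h' : X ⟶ H₂, h' ≫ i₂ = h ≫ i₁)
    (h21 : ∀ (X : Over S), Set.range X.hom ⊆ (U : Set S) → ∀ h : X ⟶ H₂, ∃ h' : X ⟶ H₁, h' ≫ i₁ = h ≫ i₂) :
    IsClosed (U : Set S) := by
  classical
  refine isClosed_of_closure_subset fun s hs => ?_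
  obtain ⟨_, ⟨V, hV, rfl⟩, hsV, -⟩ := S.isBasis_affineOpens.exists_subset_of_mem_open
    (Set.mem_univ s) isOpen_univ
  obtain ⟨q, rfl⟩ := hV.range_fromSpec.ge hsV
  let j : Spec (CommRingCat.of Γ(S, V)) ⟶ S := hV.fromSpec
  obtain ⟨P, hP⟩ := exists_pair_ft (j := j) h₁ h₂
  have : ∀ i, Monoid.FG (P.M i) := fun i => (hP i).1
  have : ∀ i, Monoid.FG (P.N i) := fun i => (hP i).2
  -- the two ideals of a torsion level
  choose c hc hc' using fun (i : P.idx) (n : {n : ℕ // 0 < n}) =>
    exists_torsion_ideal (P.chart i) (P.chart' i) i₁ i₂ n.1 n.2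
  choose d hd hd' using fun (i : P.idx) (n : {n : ℕ // 0 < n}) =>
    exists_torsion_ideal (P.chart' i) (P.chart i) i₂ i₁ n.1 n.2
  let a : ∀ i, Ideal (P.C i) := fun i => ⨆ n, c i n ⊔ d i n
  let π : ∀ i, Spec (CommRingCat.of (P.C i)) ⟶ S := fun i => Spec.map (CommRingCat.ofHom (P.θ i)) ≫ j
  have key : ∀ i (z : Spec (CommRingCat.of (P.C i))), π i z ∈ U ↔
      a i ≤ (z : PrimeSpectrum (P.C i)).asIdeal := by
    intro i z
    let zz : PrimeSpectrum (P.C i) := z
    let L := zz.asIdeal.ResidueField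
    let jL : Spec (CommRingCat.of L) ⟶ S := Spec.map (CommRingCat.ofHom (algebraMap (P.C i) L)) ≫ π i
    have hjL : jL (IsLocalRing.closedPoint L) = π i z := by
      show π i (Spec.map (CommRingCat.ofHom (algebraMap (P.C i) L)) (IsLocalRing.closedPoint L)) = π i z
      congr 1
      refine PrimeSpectrum.ext ?_
      show (IsLocalRing.maximalIdeal L).comap (algebraMap (P.C i) L) = zz.asIdeal
      rw [IsLocalRing.maximalIdeal_eq_bot]
      exact Ideal.ker_algebraMap_residueField zz.asIdeal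
    have hrg : ∀ (D : Type u) [CommRing D] [Algebra (P.C i) D] (_ : L →ₐ[P.C i] D), π i z ∈ U →
        Set.range (Cocycle.X (π i) D).hom ⊆ (U : Set S) := by
      intro D _ _ f hz
      rintro _ ⟨x, rfl⟩
      have h1 : Spec.map (CommRingCat.ofHom (algebraMap (P.C i) D)) ≫ π i =
          Spec.map (CommRingCat.ofHom f.toRingHom) ≫ jL := by
        show _ = Spec.map _ ≫ Spec.map (CommRingCat.ofHom (algebraMap (P.C i) L)) ≫ π i
        rw [← Category.assoc (Spec.map (CommRingCat.ofHom f.toRingHom)), ← Spec.map_comp, ← CommRingCat.ofHom_comp,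
          AlgHom.toRingHom_eq_coe, AlgHom.comp_algebraMap]
      show (Spec.map (CommRingCat.ofHom (algebraMap (P.C i) D)) ≫ π i) x ∈ U
      rw [h1, Scheme.Hom.comp_apply, show Spec.map (CommRingCat.ofHom f.toRingHom) x = IsLocalRing.closedPoint L from
        Subsingleton.elim (α := PrimeSpectrum L) _ _, hjL]
      exact hz
    have hker : ∀ r, algebraMap (P.C i) L r = 0 ↔ r ∈ zz.asIdeal := fun r => Ideal.algebraMap_residueField_eq_zero
    constructor
    · intro hz
      refine iSup_le fun n => sup_le ?_ ?_ <;> intro r hr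
      · exact (hker r).1 (hc' i n L (fun D _ _ f χ _ => h12 _ (hrg D f hz) _) r hr)
      · exact (hker r).1 (hd' i n L (fun D _ _ f χ _ => h21 _ (hrg D f hz) _) r hr)
    · intro ha
      rw [hU]
      have hkill : ∀ (n : {n : ℕ // 0 < n}) (C : Type u) [CommRing C] [Algebra L C],
          ∀ r ∈ c i n ⊔ d i n, (algebraMap L C).comp (algebraMap (P.C i) L) r = 0 := fun n C _ _ r hr => by
        rw [RingHom.comp_apply, (hker r).2 (ha (le_iSup (fun n => c i n ⊔ d i n) n hr)), map_zero]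
      constructor
      · refine fac_descend i₁ i₂ (jL := jL) (fac_of_torsion_field i₁ i₂
          ((P.chart i).restrict (algebraMap (P.C i) L) rfl) fun n hn C _ _ χ hχ => ?_) _ hjL
        letI := downAlg (algebraMap (P.C i) L) C
        obtain ⟨h', hh⟩ := hc i ⟨n, hn⟩ C (fun r hr => hkill ⟨n, hn⟩ C r (Submodule.mem_sup_left hr)) χ hχ
        exact ⟨adR (algebraMap (P.C i) L) rfl C rfl ≫ h', by
          rw [Category.assoc, hh, ← Category.assoc]; rfl⟩
      · refine fac_descend i₂ i₁ (jL := jL) (fac_of_torsion_field i₂ i₁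
          ((P.chart' i).restrict (algebraMap (P.C i) L) rfl) fun n hn C _ _ χ hχ => ?_) _ hjL
        letI := downAlg (algebraMap (P.C i) L) C
        obtain ⟨h', hh⟩ := hd i ⟨n, hn⟩ C (fun r hr => hkill ⟨n, hn⟩ C r (Submodule.mem_sup_right hr)) χ hχ
        exact ⟨adR (algebraMap (P.C i) L) rfl C rfl ≫ h', by
          rw [Category.assoc, hh, ← Category.assoc]; rfl⟩
  -- the locus is a finite union of images of closed sets, stable under specialisation
  let E : Set (Spec (CommRingCat.of Γ(S, V))) := j ⁻¹' (U : Set S)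
  let b : ∀ i, Spec (CommRingCat.of (P.C i ⧸ a i)) ⟶ Spec (CommRingCat.of Γ(S, V)) := fun i =>
    Spec.map (CommRingCat.ofHom (Ideal.Quotient.mk (a i))) ≫ Spec.map (CommRingCat.ofHom (P.θ i))
  have hEb : ∀ i y, b i y ∈ E := fun i y => by
    refine (key i (Spec.map (CommRingCat.ofHom (Ideal.Quotient.mk (a i))) y)).2 ?_
    intro r hr
    show Ideal.Quotient.mk (a i) r ∈ (y : PrimeSpectrum (P.C i ⧸ a i)).asIdeal
    rw [Ideal.Quotient.eq_zero_iff_mem.2 hr]
    exact zero_mem _
  have hE : E ⊆ ⋃ i, Set.range (b i) := by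
    intro x hx
    obtain ⟨i, z, rfl⟩ := P.surj x
    refine Set.mem_iUnion.2 ⟨i, ?_⟩
    have h1 : (z : PrimeSpectrum (P.C i)) ∈ PrimeSpectrum.zeroLocus (a i : Set (P.C i)) := (key i z).1 hx
    rw [← Ideal.mk_ker (I := a i), ← _root_.range_comap_of_surjective _ _ Ideal.Quotient.mk_surjective] at h1
    obtain ⟨y, hy⟩ := h1
    exact ⟨y, congrArg (Spec.map (CommRingCat.ofHom (P.θ i))) hy⟩
  have hq : q ∈ closure E := by
    exact (hV.fromSpec.isOpenEmbedding.isOpenMap.preimage_closure_eq_closure_preimage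
      hV.fromSpec.continuous (U : Set S)).le hs
  have hq' := closure_mono hE hq
  rw [closure_iUnion_of_finite] at hq'
  obtain ⟨i, hi⟩ := Set.mem_iUnion.1 hq'
  obtain ⟨y, hy⟩ := Groth.L19.exists_specializes_of_mem_closure_range (b i) hi
  obtain ⟨k, z, rfl⟩ := P.surj q
  have := P.flat k
  obtain ⟨z', hz', hzy⟩ := Flat.generalizingMap (Spec.map (CommRingCat.ofHom (P.θ k))) hy
  have h2 : a k ≤ (z' : PrimeSpectrum (P.C k)).asIdeal := (key k z').1 (by
    show j (Spec.map (CommRingCat.ofHom (P.θ k)) z') ∈ U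
    rw [hzy]; exact hEb i y)
  have h3 : a k ≤ (z : PrimeSpectrum (P.C k)).asIdeal :=
    h2.trans ((PrimeSpectrum.le_iff_specializes _ _).2 hz')
  exact (key k z).2 h3

end Main

end Groth.L25.NhdEq
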