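import Groth.Agent.L25.Cocycle.Subgroups
import Groth.Agent.L20.Pinch.Affine

/-!
# Homomorphisms agreeing modulo an ideal killed by `m`, one of them central modulo `m`
-/

set_option autoImplicit false
universe u

open CategoryTheory CategoryTheory.Limits MonoidalCategory CartesianMonoidalCategory MonObj GrpObj
open AlgebraicGeometry Groth.L25.Cocycle Groth.L20.Pinch

set_option backward.isDefEq.respectTransparency.types false

noncomputable section

namespace Groth.L25.NhdEq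

variable {R : Type u} [CommRing R]

/-- an affine scheme over the base -/
abbrev Pt (C : Type u) [CommRing C] [Algebra R C] : Over (Spec (CommRingCat.of R)) :=
  Over.mk (Spec.map (CommRingCat.ofHom (algebraMap R C)))

/-- the morphism of an algebra map -/
def pm {C D : Type u} [CommRing C] [Algebra R C] [CommRing D] [Algebra R D] (h : C →ₐ[R] D) :
    Pt (R := R) D ⟶ Pt (R := R) C :=
  Over.homMk (Spec.map (CommRingCat.ofHom h.toRingHom)) (by
    show Spec.map _ ≫ Spec.map _ = Spec.map _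
    rw [← Spec.map_comp, ← CommRingCat.ofHom_comp, AlgHom.toRingHom_eq_coe, AlgHom.comp_algebraMap])

/-- points of a fibre product of rings are determined by the two restrictions -/
theorem pm_ext {P B Q T₀ : Type u} [CommRing P] [Algebra R P] [CommRing B] [Algebra R B] [CommRing Q]
    [Algebra R Q] [CommRing T₀] {φ : P →ₐ[R] B} {φ' : P →ₐ[R] Q} {ψ : B →+* T₀} {ψ' : Q →+* T₀}
    (h : IsFib φ.toRingHom φ'.toRingHom ψ ψ') {G : Over (Spec (CommRingCat.of R))}
    {a b : Pt P ⟶ G} (h1 : pm φ ≫ a = pm φ ≫ b) (h2 : pm φ' ≫ a = pm φ' ≫ b) : a = b :=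
  Over.OverMorphism.ext (h.hom_ext_spec a.left b.left
    (congrArg (fun m => m.left) h1) (congrArg (fun m => m.left) h2))

variable {H G : Over (Spec (CommRingCat.of R))} [GrpObj H] [GrpObj G]

/-- a point which is trivial modulo `J` commutes with the values of a homomorphism central modulo `m` -/
theorem commute_of_trivial_mod (J m : Ideal R) (hJm : J ≤ m) (hmJ : m * J = ⊥) (u : H ⟶ G)
    (hc : ∀ (X : Over (Spec (CommRingCat.of R))) (_ : X ⟶ Z m) (g : X ⟶ G) (h : X ⟶ H),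
      g * (h ≫ u) = (h ≫ u) * g)
    (B : Type u) [CommRing B] [Algebra R B] (g : Pt B ⟶ G)
    (hg : ∀ (X : Over (Spec (CommRingCat.of R))) (t : X ⟶ Pt B) (_ : X ⟶ Z J), t ≫ g = 1)
    (h : Pt B ⟶ H) : g * (h ≫ u) = (h ≫ u) * g := by
  let JB := J.map (algebraMap R B)
  let mB := m.map (algebraMap R B)
  let π := Ideal.Quotient.mk JB
  let P : Subalgebra R (B × B) :=
    { Fib π π with
      algebraMap_mem' := fun r => rfl }
  let p₁ : P →ₐ[R] B := (AlgHom.fst R B B).comp P.val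
  let p₂ : P →ₐ[R] B := (AlgHom.snd R B B).comp P.val
  let δ : B →ₐ[R] P := AlgHom.codRestrict ((AlgHom.id R B).prod (AlgHom.id R B)) P fun b => rfl
  have hfib : IsFib p₁.toRingHom p₂.toRingHom π π :=
    { comm := RingHom.ext fun t => t.2
      inj := fun t h1 h2 => Subtype.ext (Prod.ext h1 h2)
      glue := fun x y hxy => ⟨⟨(x, y), hxy⟩, rfl, rfl⟩
      surj := Ideal.Quotient.mk_surjective }
  -- the point `(1, g)` of the fibre product
  let Q₀ : Over (Spec (CommRingCat.of R)) := Pt (B ⧸ JB)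
  let qJ : Q₀ ⟶ Z J := Over.homMk (Spec.map (CommRingCat.ofHom (Ideal.Quotient.lift J (algebraMap R (B ⧸ JB))
      fun r hr => by
        rw [IsScalarTower.algebraMap_apply R B (B ⧸ JB), Ideal.Quotient.algebraMap_eq,
          Ideal.Quotient.eq_zero_iff_mem]
        exact Ideal.mem_map_of_mem _ hr))) (by
    show Spec.map _ ≫ Spec.map _ = Spec.map _
    rw [← Spec.map_comp, ← CommRingCat.ofHom_comp, Ideal.Quotient.lift_comp_mk])
  have hg1 : pm (Ideal.Quotient.mkₐ R JB) ≫ g = pm (Ideal.Quotient.mkₐ R JB) ≫ (1 : Pt B ⟶ G) := by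
    rw [hg _ _ qJ, MonObj.comp_one]
  obtain ⟨gl, hl1, hl2⟩ := hfib.exists_desc_hom (Q := G.left) (1 : Pt B ⟶ G).left g.left
    (congrArg (fun m => m.left) hg1).symm
  let gP : Pt P ⟶ G := Over.homMk gl (by
    refine hfib.hom_ext_spec _ _ ?_ ?_
    · rw [← Category.assoc, hl1, Over.w (1 : Pt B ⟶ G)]
      exact (Over.w (pm p₁)).symm
    · rw [← Category.assoc, hl2, Over.w g]
      exact (Over.w (pm p₂)).symm)
  have hp1 : pm p₁ ≫ gP = 1 := Over.OverMorphism.ext hl1
  have hp2 : pm p₂ ≫ gP = g := Over.OverMorphism.ext hl2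
  have hd1 : pm p₁ ≫ pm δ ≫ h = h := by
    apply Over.OverMorphism.ext
    show Spec.map _ ≫ Spec.map _ ≫ h.left = h.left
    rw [← Spec.map_comp_assoc]
    exact (congrArg (· ≫ h.left) (Spec.map_id _)).trans (Category.id_comp _)
  have hd2 : pm p₂ ≫ pm δ ≫ h = h := by
    apply Over.OverMorphism.ext
    show Spec.map _ ≫ Spec.map _ ≫ h.left = h.left
    rw [← Spec.map_comp_assoc]
    exact (congrArg (· ≫ h.left) (Spec.map_id _)).trans (Category.id_comp _)
  -- the ideal of the diagonal of `mB`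
  have hmul : ∀ x ∈ mB, ∀ y ∈ JB, x * y = 0 := by
    intro x hx y hy
    have h1 : x * y ∈ mB * JB := Ideal.mul_mem_mul hx hy
    rwa [← Ideal.map_mul, hmJ, Ideal.map_bot, Ideal.mem_bot] at h1
  let K : Ideal P :=
    { carrier := {t | t.1.1 = t.1.2 ∧ t.1.1 ∈ mB}
      add_mem' := fun {s t} hs ht => ⟨congrArg₂ (· + ·) hs.1 ht.1, Ideal.add_mem _ hs.2 ht.2⟩
      zero_mem' := ⟨rfl, Ideal.zero_mem _⟩
      smul_mem' := fun c t ht => by
        refine ⟨?_, Ideal.mul_mem_left _ _ ht.2⟩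
        show c.1.1 * t.1.1 = c.1.2 * t.1.2
        rw [← ht.1, ← sub_eq_zero, ← sub_mul, mul_comm]
        exact hmul _ ht.2 _ (Ideal.Quotient.eq.1 c.2) }
  let K₁ : Ideal P := RingHom.ker p₁.toRingHom
  let φ : P →ₐ[R] P ⧸ K := Ideal.Quotient.mkₐ R K
  let ψ₁ : B →+* P ⧸ (K ⊔ K₁) := (Ideal.Quotient.mk (K ⊔ K₁)).comp δ.toRingHom
  let ψ₂ : P ⧸ K →+* P ⧸ (K ⊔ K₁) := Ideal.Quotient.factor le_sup_left
  have hfib' : IsFib (T := P) (T1 := B) (T2 := P ⧸ K) (T0 := P ⧸ (K ⊔ K₁)) p₁.toRingHom φ.toRingHom ψ₁ ψ₂ := by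
    refine ⟨RingHom.ext fun t => ?_, fun t h1 h2 => ?_, fun x y hxy => ?_,
      Ideal.Quotient.factor_surjective le_sup_left⟩
    · refine (Ideal.Quotient.eq (I := K ⊔ K₁) (x := δ t.1.1) (y := t)).2 (Submodule.mem_sup_right ?_)
      show (δ t.1.1 - t : P).1.1 = 0
      exact sub_self _
    · have h3 : t ∈ K := (Ideal.Quotient.eq_zero_iff_mem (I := K)).1 h2
      exact Subtype.ext (Prod.ext h1 (h3.1.symm.trans h1))
    · obtain ⟨t, ht⟩ := Ideal.Quotient.mk_surjective y
      subst ht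
      obtain ⟨k, hk, k₁, hk₁, he⟩ := Submodule.mem_sup.1
        ((Ideal.Quotient.eq (I := K ⊔ K₁) (x := δ x) (y := t)).1 hxy)
      refine ⟨t + k, ?_, (Ideal.Quotient.eq (I := K) (x := t + k) (y := t)).2 (by simpa using hk)⟩
      have h2 : k.1.1 + k₁.1.1 = x - t.1.1 := congrArg (fun z : P => z.1.1) he
      have h3 : k₁.1.1 = 0 := hk₁
      rw [h3, add_zero] at h2
      show t.1.1 + k.1.1 = x
      rw [h2, add_sub_cancel]
  let hP := pm δ ≫ h
  let qm : Pt (P ⧸ K) ⟶ Z m := Over.homMk (Spec.map (CommRingCat.ofHom (Ideal.Quotient.lift m (algebraMap R (P ⧸ K))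
      fun r hr => by
        rw [IsScalarTower.algebraMap_apply R P (P ⧸ K), Ideal.Quotient.algebraMap_eq,
          Ideal.Quotient.eq_zero_iff_mem]
        exact ⟨rfl, Ideal.mem_map_of_mem _ hr⟩))) (by
    show Spec.map _ ≫ Spec.map _ = Spec.map _
    rw [← Spec.map_comp, ← CommRingCat.ofHom_comp, Ideal.Quotient.lift_comp_mk])
  have key : gP * (hP ≫ u) = (hP ≫ u) * gP := by
    refine pm_ext hfib' ?_ ?_
    · rw [MonObj.comp_mul, MonObj.comp_mul, hp1, _root_.one_mul, _root_.mul_one]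
    · rw [MonObj.comp_mul, MonObj.comp_mul, ← Category.assoc]
      exact hc _ qm _ _
  have h5 := congrArg (pm p₂ ≫ ·) key
  simp only [MonObj.comp_mul, hp2] at h5
  rwa [← Category.assoc, show pm p₂ ≫ hP = h from hd2] at h5

/-- Homomorphisms agreeing modulo `J`, with `m * J = 0` and one of them central modulo `m`, are
equal. -/
theorem eq_of_agree_sq_zero
    (hH : TwC.Locally (Spec (CommRingCat.of R)) TwC.Topology.fpqc (fun S' f =>
      ∃ (M : Type) (_ : AddCommGroup M), Nonempty (Grp.mk (Red.bc f H) ≅ Grp.mk (Red.DS S' M))))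
    (J m : Ideal R) (hJm : J ≤ m) (hmJ : m * J = ⊥) (u v : H ⟶ G) [IsMonHom u] [IsMonHom v]
    (hA : AgreeMod J u v)
    (hc : ∀ (X : Over (Spec (CommRingCat.of R))) (_ : X ⟶ Z m) (g : X ⟶ G) (h : X ⟶ H),
      g * (h ≫ u) = (h ≫ u) * g) : u = v := by
  obtain ⟨g, hg1, hg⟩ := exists_conj_step hH (bot_le : ⊥ ≤ J)
    (by rw [← hmJ]; exact Ideal.mul_mono_left hJm) u v hA
  apply Over.OverMorphism.ext
  refine H.left.affineCover.hom_ext _ _ fun z => ?_
  let A : CommRingCat := Γ(H.left.affineCover.X z, ⊤)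
  let a : Spec A ⟶ H.left := (H.left.affineCover.X z).isoSpec.inv ≫ H.left.affineCover.f z
  rw [← cancel_epi (H.left.affineCover.X z).isoSpec.inv, ← Category.assoc, ← Category.assoc]
  change a ≫ u.left = a ≫ v.left
  obtain ⟨θ, hθ⟩ := Spec.map_surjective (a ≫ H.hom)
  letI : Algebra R A := θ.hom.toAlgebra
  let h : Pt (A : Type u) ⟶ H := Over.homMk a hθ.symm
  let q : Pt (A : Type u) ⟶ Z (⊥ : Ideal R) := toUnit _ ≫ toZBot
  have h1 := hg _ q h
  have h2 : (q ≫ g) * (h ≫ u) = (h ≫ u) * (q ≫ g) := by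
    refine commute_of_trivial_mod J m hJm hmJ u hc A (q ≫ g) (fun X t s => ?_) h
    have e : t ≫ q = s ≫ zMap bot_le := hom_Z_subsingleton _ _
    rw [← Category.assoc, e, Category.assoc, hg1, MonObj.comp_one]
  have h3 : h ≫ v = h ≫ u := by rw [h1, h2, mul_inv_cancel_right]
  exact congrArg (fun m => m.left) h3.symm

end Groth.L25.NhdEq
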