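import Groth.Agent.L25.NhdEq.Nhd
import Groth.Agent.L25.NhdEq.SqZero

/-!
# Neighbourhoods on which two subgroups of multiplicative type coincide
-/

set_option autoImplicit false
universe u

open CategoryTheory CategoryTheory.Limits MonoidalCategory CartesianMonoidalCategory MonObj GrpObj
open AlgebraicGeometry

set_option backward.isDefEq.respectTransparency.types false

noncomputable section

namespace Groth.L25.NhdEq

open Groth.L25.Cocycle

theorem locally_of_ft {S : Scheme.{u}} {H : Over S} [GrpObj H] (hH : SGA3x.IsMultTypeFT H) :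
    TwC.Locally S TwC.Topology.fpqc (fun S' f =>
      ∃ (M : Type) (_ : AddCommGroup M), Nonempty (Grp.mk (Red.bc f H) ≅ Grp.mk (Red.DS S' M))) := by
  obtain ⟨S', f, hflat, hsurj, hqc, hloc⟩ := hH
  exact ⟨S', f, hflat, hsurj, hqc, fun s => by
    obtain ⟨W, hsW, M, inst, -, he⟩ := hloc s
    exact ⟨W, hsW, M, inst, he⟩⟩

section Compare

variable {S P : Scheme.{u}} (j : P ⟶ S) {H₁ H₂ G : Over S} (i₁ : H₁ ⟶ G) (i₂ : H₂ ⟶ G)

/-- points factor if the base changes do -/
theorem fac_of_map (ψ : Red.bc j H₁ ⟶ Red.bc j H₂)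
    (hψ : ψ ≫ (Over.pullback j).map i₂ = (Over.pullback j).map i₁) (X : Over S) (w : X.left ⟶ P)
    (hw : w ≫ j = X.hom) (h : X ⟶ H₁) : ∃ h' : X ⟶ H₂, h' ≫ i₂ = h ≫ i₁ := by
  let c : Over.mk ((Over.mk w).hom ≫ j) ⟶ X := Over.homMk (𝟙 X.left) (by
    show 𝟙 X.left ≫ X.hom = w ≫ j
    rw [Category.id_comp, hw])
  let c' : X ⟶ Over.mk ((Over.mk w).hom ≫ j) := Over.homMk (𝟙 X.left) (by
    show 𝟙 X.left ≫ w ≫ j = X.hom
    rw [Category.id_comp, hw])
  refine ⟨c' ≫ NilAction.toBase j (NilAction.ofBase j (c ≫ h) ≫ ψ), ?_⟩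
  rw [Category.assoc, ← Locus.toBase_map, Category.assoc, hψ, Locus.toBase_map, NilAction.toBase_ofBase,
    ← Category.assoc, ← Category.assoc, show c' ≫ c = 𝟙 X from Over.OverMorphism.ext (Category.id_comp _),
    Category.id_comp]

/-- the base changes are isomorphic if all points over the base factor -/
theorem iso_of_factors [Mono i₁] [Mono i₂]
    (h12 : ∀ (X : Over S) (w : X.left ⟶ P), w ≫ j = X.hom → ∀ h : X ⟶ H₁, ∃ h' : X ⟶ H₂, h' ≫ i₂ = h ≫ i₁)
    (h21 : ∀ (X : Over S) (w : X.left ⟶ P), w ≫ j = X.hom → ∀ h : X ⟶ H₂, ∃ h' : X ⟶ H₁, h' ≫ i₁ = h ≫ i₂) :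
    ∃ ψ : Red.bc j H₁ ≅ Red.bc j H₂, ψ.hom ≫ (Over.pullback j).map i₂ = (Over.pullback j).map i₁ := by
  obtain ⟨a, ha⟩ := h12 (Over.mk ((Red.bc j H₁).hom ≫ j)) (Red.bc j H₁).hom rfl (NilAction.toBase j (𝟙 _))
  obtain ⟨b, hb⟩ := h21 (Over.mk ((Red.bc j H₂).hom ≫ j)) (Red.bc j H₂).hom rfl (NilAction.toBase j (𝟙 _))
  have e1 : NilAction.ofBase j a ≫ (Over.pullback j).map i₂ = (Over.pullback j).map i₁ := by
    rw [NilAction.ofBase_comp, ha, ← NilAction.ofBase_comp, NilAction.ofBase_toBase, Category.id_comp]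
  have e2 : NilAction.ofBase j b ≫ (Over.pullback j).map i₁ = (Over.pullback j).map i₂ := by
    rw [NilAction.ofBase_comp, hb, ← NilAction.ofBase_comp, NilAction.ofBase_toBase, Category.id_comp]
  refine ⟨⟨NilAction.ofBase j a, NilAction.ofBase j b, (cancel_mono ((Over.pullback j).map i₁)).1 ?_,
    (cancel_mono ((Over.pullback j).map i₂)).1 ?_⟩, e1⟩
  · rw [Category.assoc, e2, e1, Category.id_comp]
  · rw [Category.assoc, e1, e2, Category.id_comp]

end Compare

section Affine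

variable {R : Type u} [CommRing R] {H₁ H₂ G : Over (Spec (CommRingCat.of R))} [GrpObj H₁] [GrpObj H₂] [GrpObj G]

/-- lying over a point -/
def OverPt (p : Ideal R) [p.IsPrime] (X : Over (Spec (CommRingCat.of R))) : Prop :=
  ∃ w : X.left ⟶ Spec (CommRingCat.of p.ResidueField),
    w ≫ Spec.map (CommRingCat.ofHom (algebraMap R p.ResidueField)) = X.hom

theorem overPt_of_kill (p : Ideal R) [p.IsPrime] (B : Type u) [CommRing B] [IsLocalRing B] [Algebra R B]
    (hB : (IsLocalRing.maximalIdeal B).comap (algebraMap R B) = p) {X : Over (Spec (CommRingCat.of R))}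
    {C : Type u} [CommRing C] (φ : B →+* C) (hφ : ∀ r ∈ IsLocalRing.maximalIdeal B, φ r = 0)
    (a : X.left ⟶ Spec (CommRingCat.of C))
    (ha : a ≫ Spec.map (CommRingCat.ofHom (φ.comp (algebraMap R B))) = X.hom) : OverPt p X := by
  have h0 : p ≤ RingHom.ker (φ.comp (algebraMap R B)) := fun r hr => by
    rw [← hB] at hr
    exact hφ _ hr
  have h1 : p.primeCompl ≤ (IsUnit.submonoid C).comap (φ.comp (algebraMap R B)) := fun r hr => by
    refine IsUnit.map φ ?_
    by_contra hn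
    exact hr (hB.le (show r ∈ (IsLocalRing.maximalIdeal B).comap (algebraMap R B) from
      (IsLocalRing.mem_maximalIdeal _).2 hn))
  refine ⟨a ≫ Spec.map (CommRingCat.ofHom (Ideal.ResidueField.lift p _ h0 h1)), ?_⟩
  rw [Category.assoc, ← Spec.map_comp, ← CommRingCat.ofHom_comp, ← ha]
  congr 3
  exact RingHom.ext fun r => Ideal.ResidueField.lift_algebraMap p _ h0 h1 r

variable (h₁ : SGA3x.IsMultTypeFT H₁) (h₂ : SGA3x.IsMultTypeFT H₂)
  (i₁ : H₁ ⟶ G) [IsMonHom i₁] (i₂ : H₂ ⟶ G) [IsMonHom i₂] [IsImmersion i₂.left]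
  (p : Ideal R) [p.IsPrime]

include h₁ h₂ in
theorem exists_nhd_factor (hG : IsNoetherianRing R ∨ LocallyOfFinitePresentation G.hom)
    (hfac : ∀ X : Over (Spec (CommRingCat.of R)), OverPt p X → ∀ h : X ⟶ H₁, ∃ h' : X ⟶ H₂, h' ≫ i₂ = h ≫ i₁)
    (hcent : ∀ X : Over (Spec (CommRingCat.of R)), OverPt p X → ∀ (g : X ⟶ G) (h : X ⟶ H₁),
      g * (h ≫ i₁) = (h ≫ i₁) * g) :
    ∃ f ∉ p, ∀ (T : Over (Spec (CommRingCat.of R))) (x : T ⟶ H₁),
      Set.range T.hom ⊆ (PrimeSpectrum.basicOpen f : Set (PrimeSpectrum R)) →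
        ∃ h' : T ⟶ H₂, h' ≫ i₂ = x ≫ i₁ := by
  have : Mono i₂ := Over.mono_of_mono_left i₂
  let W : Over (Spec (CommRingCat.of R)) := Over.mk (pullback.fst i₁.left i₂.left ≫ H₁.hom)
  let k : W ⟶ H₁ := Over.homMk (pullback.fst i₁.left i₂.left) rfl
  have : IsImmersion k.left := inferInstanceAs (IsImmersion (pullback.fst i₁.left i₂.left))
  have : LocallyOfFinitePresentation k.left := by
    have := Locus.lfp_of_multTypeFT h₁
    have := Locus.lfp_of_multTypeFT h₂
    rcases hG with hN | hl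
    · have : IsNoetherianRing (CommRingCat.of R) := hN
      have : IsLocallyNoetherian (Spec (CommRingCat.of R)) := inferInstance
      have : IsLocallyNoetherian H₁.left := LocallyOfFiniteType.isLocallyNoetherian H₁.hom
      exact TrivLocus.lfp_of_noetherian k.left
    · have : LocallyOfFinitePresentation (i₂.left ≫ G.hom) := by rw [Over.w i₂]; infer_instance
      have := Groth.L20.locallyOfFinitePresentation_of_comp i₂.left G.hom
      exact MorphismProperty.pullback_fst _ _ ‹_›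
  have hiff : ∀ {T : Over (Spec (CommRingCat.of R))} (x : T ⟶ H₁),
      (∃ w, w ≫ k = x) ↔ ∃ h' : T ⟶ H₂, h' ≫ i₂ = x ≫ i₁ := by
    intro T x
    constructor
    · rintro ⟨w, rfl⟩
      refine ⟨Over.homMk (w.left ≫ pullback.snd i₁.left i₂.left) ?_, Over.OverMorphism.ext ?_⟩
      · rw [← Over.w i₂, Category.assoc, ← pullback.condition_assoc, Over.w i₁]
        exact Over.w w
      · show (w.left ≫ pullback.snd _ _) ≫ i₂.left = (w.left ≫ pullback.fst _ _) ≫ i₁.left
        rw [Category.assoc, Category.assoc, pullback.condition]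
    · rintro ⟨h', hh⟩
      exact ⟨Over.homMk (pullback.lift x.left h'.left (congrArg (fun m => m.left) hh).symm) (by
          show pullback.lift _ _ _ ≫ pullback.fst _ _ ≫ H₁.hom = T.hom
          rw [pullback.lift_fst_assoc, Over.w x]),
        Over.OverMorphism.ext (pullback.lift_fst _ _ _)⟩
  refine Exists.imp (fun f hf => ⟨hf.1, fun T x hT => (hiff x).1 (hf.2 T x hT)⟩) (exists_nhd h₁ k
    (fun T a b ha hb => by
      obtain ⟨a', ha'⟩ := (hiff a).1 ha
      obtain ⟨b', hb'⟩ := (hiff b).1 hb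
      exact (hiff _).2 ⟨a' * b', by rw [MonObj.mul_comp, MonObj.mul_comp, ha', hb']⟩)
    p
    (fun B _ _ _ hB C _ _ hC x => (hiff x).2 (hfac _ (overPt_of_kill p B hB (algebraMap B C) hC (𝟙 _) (by
      show 𝟙 _ ≫ Spec.map _ = Spec.map _ ≫ Spec.map _
      rw [Category.id_comp, CommRingCat.ofHom_comp, Spec.map_comp])) x))
    (fun B _ _ _ hB c hcfg hcm hall C _ _ hC x => (hiff x).2 ?_))
  -- one step
  let m := IsLocalRing.maximalIdeal B
  let B' := B ⧸ m * c
  let mk := Ideal.Quotient.mk (m * c)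
  let π : Spec (CommRingCat.of B') ⟶ Spec (CommRingCat.of R) :=
    Spec.map (CommRingCat.ofHom (mk.comp (algebraMap R B)))
  let J : Ideal B' := c.map mk
  let m' : Ideal B' := m.map mk
  have hJm : J ≤ m' := Ideal.map_mono hcm
  have hmJ : m' * J = ⊥ := by
    rw [← Ideal.map_mul, Ideal.map_quotient_self]
  have hJn : IsNilpotent J := ⟨2, by
    rw [pow_two, Ideal.zero_eq_bot, eq_bot_iff, ← hmJ]
    exact Ideal.mul_mono_left hJm⟩
  let u₁ := (Over.pullback π).map i₁
  let u₂ := (Over.pullback π).map i₂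
  have hfac' : ∀ (Y : Over (Spec (CommRingCat.of B'))) (_ : Y ⟶ Z J) (h : Y ⟶ Red.bc π H₁),
      ∃ h' : Y ⟶ Red.bc π H₂, h' ≫ u₂ = h ≫ u₁ := by
    intro Y q h
    let z := NilAction.toBase π h
    obtain ⟨w, hw⟩ := Locus.factors_of_cover k.left z.left fun y => by
      let P := Y.left.affineCover.X (Y.left.affineCover.idx y)
      let o : Spec Γ(P, ⊤) ⟶ Y.left := P.isoSpec.inv ≫ Y.left.affineCover.f (Y.left.affineCover.idx y)
      refine ⟨_, o, inferInstance, ?_, ?_⟩
      · obtain ⟨y', hy⟩ := Y.left.affineCover.covers y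
        obtain ⟨y'', rfl⟩ := P.isoSpec.inv.surjective y'
        exact ⟨y'', hy⟩
      let C : Type u := Γ(P, ⊤)
      obtain ⟨φ, hφ⟩ := Spec.map_surjective (o ≫ q.left)
      letI : Algebra B C := ((φ.hom.comp (Ideal.Quotient.mk J)).comp mk).toAlgebra
      have hC : ∀ r ∈ c, algebraMap B C r = 0 := fun r hr => by
        show φ.hom (Ideal.Quotient.mk J (mk r)) = 0
        rw [Ideal.Quotient.eq_zero_iff_mem.2 (Ideal.mem_map_of_mem mk hr), map_zero]
      let xo : X (jB R B) C ⟶ H₁ := Over.homMk (o ≫ z.left) (by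
        show (o ≫ z.left) ≫ H₁.hom = Spec.map _ ≫ Spec.map _
        rw [Category.assoc, Over.w z]
        show o ≫ Y.hom ≫ π = _
        rw [← Over.w q]
        show o ≫ (q.left ≫ Spec.map (CommRingCat.ofHom (Ideal.Quotient.mk J))) ≫
          Spec.map (CommRingCat.ofHom (mk.comp (algebraMap R B))) = _
        have e : ∀ {V : Scheme.{u}} (r : Spec (CommRingCat.of (B' ⧸ J)) ⟶ V), o ≫ q.left ≫ r = Spec.map φ ≫ r :=
          fun r => by rw [hφ]; exact (Category.assoc o q.left r).symm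
        refine ((congrArg (o ≫ ·) (Category.assoc _ _ _)).trans (e _)).trans ?_
        rw [← Spec.map_comp, ← Spec.map_comp, ← Spec.map_comp]
        rfl)
      obtain ⟨w, hw⟩ := hall C hC xo
      exact ⟨w.left, congrArg (fun m => m.left) hw⟩
    obtain ⟨h', hh⟩ := (hiff z).1 ⟨Over.homMk w (by rw [← Over.w k, reassoc_of% hw, Over.w z]), Over.OverMorphism.ext hw⟩
    refine ⟨NilAction.ofBase π h', ?_⟩
    rw [NilAction.ofBase_comp, hh, ← NilAction.ofBase_comp, NilAction.ofBase_toBase]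
  have hH₁' := locally_of_ft (MultTypeBC.isMultTypeFT_bc h₁ π)
  have hH₂' := locally_of_ft (MultTypeBC.isMultTypeFT_bc h₂ π)
  obtain ⟨φ, hφ, hA⟩ := exists_hom_lift hH₁' hH₂' hJn u₁ u₂ hfac'
  have hc' : ∀ (Y : Over (Spec (CommRingCat.of B'))) (_ : Y ⟶ Z m') (g : Y ⟶ Red.bc π G) (h : Y ⟶ Red.bc π H₁),
      g * (h ≫ u₁) = (h ≫ u₁) * g := by
    intro Y q g h
    have hX : OverPt p (Over.mk (Y.hom ≫ π)) := overPt_of_kill p B hB ((Ideal.Quotient.mk m').comp mk)
      (fun r hr => Ideal.Quotient.eq_zero_iff_mem.2 (Ideal.mem_map_of_mem mk hr)) q.left (by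
        show q.left ≫ _ = Y.hom ≫ π
        rw [← Over.w q]
        show _ = (q.left ≫ Spec.map _) ≫ Spec.map _
        rw [Category.assoc, ← Spec.map_comp]
        rfl)
    have h1 := hcent _ hX (NilAction.toBase π g) (NilAction.toBase π h)
    rw [← Locus.toBase_map, ← NilAction.toBase_mul, ← NilAction.toBase_mul] at h1
    have h2 := congrArg (NilAction.ofBase π) h1
    rwa [NilAction.ofBase_toBase, NilAction.ofBase_toBase] at h2
  have he : u₁ = φ ≫ u₂ :=
    eq_of_agree_sq_zero hH₁' J m' hJm hmJ u₁ (φ ≫ u₂) (fun Y q h => (hA Y q h).symm) hc'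
  exact fac_of_map π i₁ i₂ φ he.symm (X (jB R B) C)
    (Spec.map (CommRingCat.ofHom (Ideal.Quotient.lift (m * c) (algebraMap B C) hC))) (by
      show Spec.map _ ≫ Spec.map _ = Spec.map _ ≫ Spec.map _
      rw [← Spec.map_comp, ← Spec.map_comp, ← CommRingCat.ofHom_comp, ← CommRingCat.ofHom_comp,
        ← RingHom.comp_assoc, Ideal.Quotient.lift_comp_mk]) x

end Affine

section Global

variable {S : Scheme.{u}} {H₁ H₂ G : Over S} [GrpObj H₁] [GrpObj H₂] [GrpObj G]

/-- commutation can be checked after base change -/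
theorem comm_of_map {P : Scheme.{u}} (j : P ⟶ S) (i₁ : H₁ ⟶ G)
    (hc : ∀ (Y : Over P) (g : Y ⟶ Red.bc j G) (h : Y ⟶ Red.bc j H₁),
      g * (h ≫ (Over.pullback j).map i₁) = (h ≫ (Over.pullback j).map i₁) * g)
    (X : Over S) (w : X.left ⟶ P) (hw : w ≫ j = X.hom) (g : X ⟶ G) (h : X ⟶ H₁) :
    g * (h ≫ i₁) = (h ≫ i₁) * g := by
  let c : Over.mk ((Over.mk w).hom ≫ j) ⟶ X := Over.homMk (𝟙 X.left) (by
    show 𝟙 X.left ≫ X.hom = w ≫ j
    rw [Category.id_comp, hw])
  let c' : X ⟶ Over.mk ((Over.mk w).hom ≫ j) := Over.homMk (𝟙 X.left) (by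
    show 𝟙 X.left ≫ w ≫ j = X.hom
    rw [Category.id_comp, hw])
  have hcc : c' ≫ c = 𝟙 X := Over.OverMorphism.ext (Category.id_comp _)
  have h1 := congrArg (fun z => c' ≫ NilAction.toBase j z)
    (hc _ (NilAction.ofBase j (c ≫ g)) (NilAction.ofBase j (c ≫ h)))
  simp only [NilAction.ofBase_comp, NilAction.toBase_mul, NilAction.toBase_ofBase, MonObj.comp_mul,
    reassoc_of% hcc] at h1
  exact h1

variable (h₁ : SGA3x.IsMultTypeFT H₁) (h₂ : SGA3x.IsMultTypeFT H₂)
  (i₁ : H₁ ⟶ G) [IsMonHom i₁] (i₂ : H₂ ⟶ G) [IsMonHom i₂] [IsImmersion i₂.left]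

include h₁ h₂ in
theorem exists_nhd_fac (hG : IsLocallyNoetherian S ∨ LocallyOfFinitePresentation G.hom) (s : S)
    (hfac : ∀ (X : Over S) (w : X.left ⟶ Spec (S.residueField s)), w ≫ S.fromSpecResidueField s = X.hom →
      ∀ h : X ⟶ H₁, ∃ h' : X ⟶ H₂, h' ≫ i₂ = h ≫ i₁)
    (hcent : ∀ (X : Over S) (w : X.left ⟶ Spec (S.residueField s)), w ≫ S.fromSpecResidueField s = X.hom →
      ∀ (g : X ⟶ G) (h : X ⟶ H₁), g * (h ≫ i₁) = (h ≫ i₁) * g) :
    ∃ U : S.Opens, s ∈ U ∧ ∀ (X : Over S), Set.range X.hom ⊆ (U : Set S) →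
      ∀ h : X ⟶ H₁, ∃ h' : X ⟶ H₂, h' ≫ i₂ = h ≫ i₁ := by
  obtain ⟨_, ⟨V, hV, rfl⟩, hsV, -⟩ := S.isBasis_affineOpens.exists_subset_of_mem_open
    (show s ∈ (⊤ : S.Opens) from trivial) (⊤ : S.Opens).2
  obtain ⟨p, hp⟩ : s ∈ Set.range hV.fromSpec := hV.range_fromSpec.ge hsV
  let j := hV.fromSpec
  let K := p.asIdeal.ResidueField
  let ξ : Spec (CommRingCat.of K) ⟶ S := Spec.map (CommRingCat.ofHom (algebraMap Γ(S, V) K)) ≫ j
  have hξ : ξ (IsLocalRing.closedPoint K) = s := by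
    rw [← hp]
    show j (Spec.map (CommRingCat.ofHom (algebraMap Γ(S, V) K)) (IsLocalRing.closedPoint K)) = j p
    congr 1
    refine PrimeSpectrum.ext ?_
    show (IsLocalRing.maximalIdeal K).comap (algebraMap Γ(S, V) K) = p.asIdeal
    rw [IsLocalRing.maximalIdeal_eq_bot]
    exact Ideal.ker_algebraMap_residueField p.asIdeal
  obtain ⟨w₀, hw₀⟩ : ∃ w₀ : Spec (CommRingCat.of K) ⟶ Spec (S.residueField s),
      w₀ ≫ S.fromSpecResidueField s = ξ := by
    subst hξ
    exact ⟨Spec.map _, Scheme.descResidueField_stalkClosedPointTo_fromSpecResidueField K S ξ⟩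
  have hover : ∀ X : Over (Spec Γ(S, V)), OverPt p.asIdeal X →
      ∃ w, w ≫ S.fromSpecResidueField s = X.hom ≫ j := by
    rintro X ⟨w, hw⟩
    exact ⟨w ≫ w₀, by rw [Category.assoc, hw₀, ← hw]; exact (Category.assoc _ _ _).symm⟩
  have hR : IsNoetherianRing Γ(S, V) ∨ LocallyOfFinitePresentation (Red.bc j G).hom := by
    rcases hG with h | h
    · exact Or.inl (IsLocallyNoetherian.component_noetherian ⟨V, hV⟩)
    · exact Or.inr (MorphismProperty.pullback_snd G.hom j h)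
  have : IsImmersion ((Over.pullback j).map i₂).left := by
    have hsq : IsPullback ((Over.pullback j).map i₂).left (pullback.fst H₂.hom j) (pullback.fst G.hom j) i₂.left := by
      refine IsPullback.of_right ?_ (pullback.lift_fst _ _ _) (IsPullback.of_hasPullback G.hom j).flip
      show IsPullback (((Over.pullback j).map i₂).left ≫ (Red.bc j G).hom) _ _ (i₂.left ≫ G.hom)
      rw [Over.w, Over.w]
      exact (IsPullback.of_hasPullback H₂.hom j).flip
    exact MorphismProperty.of_isPullback hsq.flip inferInstance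
  obtain ⟨f, hfp, hf⟩ := exists_nhd_factor (MultTypeBC.isMultTypeFT_bc h₁ j) (MultTypeBC.isMultTypeFT_bc h₂ j)
    ((Over.pullback j).map i₁) ((Over.pullback j).map i₂) p.asIdeal hR
    (fun X hX h => by
      obtain ⟨w, hw⟩ := hover X hX
      obtain ⟨h', hh⟩ := hfac (Over.mk (X.hom ≫ j)) w hw (NilAction.toBase j h)
      exact ⟨NilAction.ofBase j h', by
        rw [NilAction.ofBase_comp, hh, ← NilAction.ofBase_comp, NilAction.ofBase_toBase]⟩)
    (fun X hX g h => by
      obtain ⟨w, hw⟩ := hover X hX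
      have h1 := congrArg (NilAction.ofBase j)
        (hcent (Over.mk (X.hom ≫ j)) w hw (NilAction.toBase j g) (NilAction.toBase j h))
      rwa [← Locus.toBase_map, ← NilAction.toBase_mul, ← NilAction.toBase_mul, NilAction.ofBase_toBase,
        NilAction.ofBase_toBase] at h1)
  refine ⟨S.basicOpen f, ?_, fun X hX h => ?_⟩
  · have h1 : p ∈ hV.fromSpec ⁻¹ᵁ S.basicOpen f := by
      rw [hV.fromSpec_preimage_basicOpen]
      exact hfp
    rw [← hp]
    exact h1
  have hXj : Set.range X.hom ⊆ Set.range j :=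
    hX.trans ((SetLike.coe_subset_coe.2 (S.basicOpen_le f)).trans hV.range_fromSpec.ge)
  let g := IsOpenImmersion.lift j X.hom hXj
  have hg : g ≫ j = X.hom := IsOpenImmersion.lift_fac _ _ _
  let c : Over.mk ((Over.mk g).hom ≫ j) ⟶ X := Over.homMk (𝟙 X.left) (by
    show 𝟙 X.left ≫ X.hom = g ≫ j
    rw [Category.id_comp, hg])
  let c' : X ⟶ Over.mk ((Over.mk g).hom ≫ j) := Over.homMk (𝟙 X.left) (by
    show 𝟙 X.left ≫ g ≫ j = X.hom
    rw [Category.id_comp, hg])
  obtain ⟨h', hh⟩ := hf (Over.mk g) (NilAction.ofBase j (c ≫ h)) (by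
    rintro _ ⟨y, rfl⟩
    have h2 : g y ∈ hV.fromSpec ⁻¹ᵁ S.basicOpen f := by
      show j (g y) ∈ (S.basicOpen f : Set S)
      rw [← Scheme.Hom.comp_apply, hg]
      exact hX ⟨y, rfl⟩
    rw [hV.fromSpec_preimage_basicOpen] at h2
    exact h2)
  refine ⟨c' ≫ NilAction.toBase j h', ?_⟩
  rw [Category.assoc, ← Locus.toBase_map, hh, Locus.toBase_map, NilAction.toBase_ofBase,
    ← Category.assoc, ← Category.assoc, show c' ≫ c = 𝟙 X from Over.OverMorphism.ext (Category.id_comp _),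
    Category.id_comp]

end Global

end Groth.L25.NhdEq
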