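import Groth.Agent.L25.NhdEq.Subgroup
import Groth.Agent.L25.Translate
import Groth.Agent.L25.ConnIrred

/-!
# Points commuting with a group of multiplicative type near a point where they do
-/

set_option autoImplicit false
universe u

open CategoryTheory CategoryTheory.Limits MonoidalCategory CartesianMonoidalCategory MonObj GrpObj
open AlgebraicGeometry

set_option backward.isDefEq.respectTransparency.types false

noncomputable section

namespace Groth.L25.NhdEq

open Groth.L25.Cocycle

section Nhd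

variable {S : Scheme.{u}} {H G : Over S} [GrpObj H] [GrpObj G] {A : Type u} [CommRing A]
  {jT : Spec (CommRingCat.of A) ⟶ S}

theorem exists_nhd_commute (hH : SGA3x.IsMultTypeFT H) [LocallyOfFiniteType G.hom] (u : H ⟶ G) [IsMonHom u]
    (g₀ : Over.mk jT ⟶ G) (p : Ideal A) [p.IsPrime]
    (hp : ∀ (X : Over S) (t : X ⟶ Over.mk jT), OverPt p (Over.mk t.left) → ∀ (g : X ⟶ G) (h : X ⟶ H),
      Commute g (h ≫ u)) :
    ∃ f ∉ p, ∀ (X : Over S) (t : X ⟶ Over.mk jT),
      Set.range t.left ⊆ (PrimeSpectrum.basicOpen f : Set (PrimeSpectrum A)) →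
        ∀ h : X ⟶ H, Commute (t ≫ g₀) (h ≫ u) := by
  let T : Over S := Over.mk jT
  let a : H ⊗ T ⟶ G := (snd H T ≫ g₀) * (fst H T ≫ u)
  let b : H ⊗ T ⟶ G := (fst H T ≫ u) * (snd H T ≫ g₀)
  let δ : G ⟶ G ⊗ G := lift (𝟙 G) (𝟙 G)
  have hδ : δ.left = pullback.diagonal G.hom := rfl
  have : IsImmersion δ.left := by
    rw [hδ]; infer_instance
  have : LocallyOfFinitePresentation δ.left := by
    rw [hδ]
    have : LocallyOfFinitePresentation (pullback.diagonal G.hom ≫ pullback.fst G.hom G.hom) := by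
      rw [pullback.diagonal_fst]; infer_instance
    exact Groth.L20.locallyOfFinitePresentation_of_comp (pullback.diagonal G.hom) (pullback.fst G.hom G.hom)
  let HT := Red.bc jT H
  let W : Over (Spec (CommRingCat.of A)) := Over.mk (pullback.fst (lift a b).left δ.left ≫ HT.hom)
  let k : W ⟶ HT := Over.homMk (pullback.fst (lift a b).left δ.left) rfl
  have : IsImmersion k.left := inferInstanceAs (IsImmersion (pullback.fst (lift a b).left δ.left))
  have : LocallyOfFinitePresentation k.left :=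
    MorphismProperty.pullback_fst (P := @LocallyOfFinitePresentation) _ _ ‹_›
  -- factorisation through `k` is commutation
  have hiff : ∀ (X : Over S) (t : X ⟶ T) (h : X ⟶ H),
      (∃ w, w ≫ k.left = (lift h t).left) ↔ Commute (t ≫ g₀) (h ≫ u) := by
    intro X t h
    have ha : lift h t ≫ a = (t ≫ g₀) * (h ≫ u) := by
      simp only [a, MonObj.comp_mul, lift_fst_assoc, lift_snd_assoc]
    have hb : lift h t ≫ b = (h ≫ u) * (t ≫ g₀) := by
      simp only [b, MonObj.comp_mul, lift_fst_assoc, lift_snd_assoc]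
    constructor
    · rintro ⟨w, hw⟩
      have h2 : (w ≫ pullback.snd (lift a b).left δ.left) ≫ δ.left = (lift h t ≫ lift a b).left := by
        show _ = (lift h t).left ≫ (lift a b).left
        rw [← hw]
        show _ = (w ≫ pullback.fst _ _) ≫ _
        rw [Category.assoc, Category.assoc, pullback.condition]
      let y : X ⟶ G := Over.homMk (w ≫ pullback.snd (lift a b).left δ.left) (by
        rw [← Over.w δ, ← Category.assoc, h2, Over.w (lift h t ≫ lift a b)])
      have h3 : y ≫ δ = lift h t ≫ lift a b := Over.OverMorphism.ext h2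
      have h4 := h3 =≫ fst G G
      have h5 := h3 =≫ snd G G
      simp only [δ, Category.assoc, lift_fst, lift_snd, Category.comp_id] at h4 h5
      show _ = _
      rw [← ha, ← hb, ← h4, ← h5]
    · intro hc
      have h3 : (lift h t ≫ a) ≫ δ = lift h t ≫ lift a b := by
        apply CartesianMonoidalCategory.hom_ext
        · simp only [δ, Category.assoc, lift_fst, Category.comp_id]
        · simp only [δ, Category.assoc, lift_snd, Category.comp_id]
          rw [ha, hb]; exact hc
      exact ⟨pullback.lift (lift h t).left (lift h t ≫ a).left (congrArg (fun m => m.left) h3).symm,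
        pullback.lift_fst _ _ _⟩
  let tX : ∀ Y : Over (Spec (CommRingCat.of A)), Over.mk (Y.hom ≫ jT) ⟶ T := fun Y => Over.homMk Y.hom rfl
  have hleft : ∀ {Y : Over (Spec (CommRingCat.of A))} (x : Y ⟶ HT),
      (lift (NilAction.toBase jT x) (tX Y)).left = x.left := by
    intro Y x
    apply pullback.hom_ext
    · exact congrArg (fun m => m.left) (lift_fst (NilAction.toBase jT x) (tX Y))
    · exact (congrArg (fun m => m.left) (lift_snd (NilAction.toBase jT x) (tX Y))).trans (Over.w x).symm
  have hiff' : ∀ {Y : Over (Spec (CommRingCat.of A))} (x : Y ⟶ HT),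
      (∃ w, w ≫ k = x) ↔ Commute (tX Y ≫ g₀) (NilAction.toBase jT x ≫ u) := by
    intro Y x
    rw [← hiff, hleft]
    constructor
    · rintro ⟨w, hw⟩
      exact ⟨w.left, congrArg (fun m => m.left) hw⟩
    · rintro ⟨w, hw⟩
      exact ⟨Over.homMk w (by rw [← Over.w k, reassoc_of% hw, Over.w x]), Over.OverMorphism.ext hw⟩
  have hHT : SGA3x.IsMultTypeFT HT := MultTypeBC.isMultTypeFT_bc hH jT
  refine Exists.imp (fun f hf => ⟨hf.1, fun X t hX h => ?_⟩) (exists_nhd hHT k
    (fun Y x y hx hy => (hiff' _).2 (by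
      rw [NilAction.toBase_mul, MonObj.mul_comp]
      exact ((hiff' x).1 hx).mul_right ((hiff' y).1 hy)))
    p
    (fun B _ _ _ hB C _ _ hC x => (hiff' x).2 (hp _ (tX _) (overPt_of_kill p B hB (algebraMap B C) hC (𝟙 _) (by
      show 𝟙 _ ≫ Spec.map _ = Spec.map _ ≫ Spec.map _
      rw [Category.id_comp, CommRingCat.ofHom_comp, Spec.map_comp])) _ _))
    (fun B _ _ _ hB c hcfg hcm hall C _ _ hC x => (hiff' x).2 ?_))
  · let Y : Over (Spec (CommRingCat.of A)) := Over.mk t.left
    let d : Over.mk (Y.hom ≫ jT) ⟶ X := Over.homMk (𝟙 X.left) (by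
      show 𝟙 X.left ≫ X.hom = t.left ≫ jT
      rw [Category.id_comp]; exact (Over.w t).symm)
    obtain ⟨w, hw⟩ := hf.2 Y (NilAction.ofBase jT (d ≫ h)) hX
    refine (hiff X t h).1 ⟨w.left, ?_⟩
    rw [← Over.comp_left, hw, ← hleft, NilAction.toBase_ofBase]
    apply pullback.hom_ext
    · exact (congrArg (fun m => m.left) (lift_fst (d ≫ h) (tX Y))).trans
        ((Category.id_comp _).trans (congrArg (fun m => m.left) (lift_fst h t)).symm)
    · exact (congrArg (fun m => m.left) (lift_snd (d ≫ h) (tX Y))).trans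
        (congrArg (fun m => m.left) (lift_snd h t)).symm
  -- one step
  let m := IsLocalRing.maximalIdeal B
  let B' := B ⧸ m * c
  let mk := Ideal.Quotient.mk (m * c)
  let π : Spec (CommRingCat.of B') ⟶ Spec (CommRingCat.of A) :=
    Spec.map (CommRingCat.ofHom (mk.comp (algebraMap A B)))
  let π' : Spec (CommRingCat.of B') ⟶ S := π ≫ jT
  let J : Ideal B' := c.map mk
  let m' : Ideal B' := m.map mk
  have hJm : J ≤ m' := Ideal.map_mono hcm
  have hmJ : m' * J = ⊥ := by
    rw [← Ideal.map_mul, Ideal.map_quotient_self]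
  let u' := (Over.pullback π').map u
  let tY : ∀ Y : Over (Spec (CommRingCat.of B')), Over.mk (Y.hom ≫ π') ⟶ T := fun Y =>
    Over.homMk (Y.hom ≫ π) (Category.assoc _ _ _)
  let e₁ : 𝟙_ (Over (Spec (CommRingCat.of B'))) ⟶ Red.bc π' G := NilAction.ofBase π' (tY _ ≫ g₀)
  have he₁ : ∀ Y : Over (Spec (CommRingCat.of B')),
      NilAction.toBase π' (toUnit Y ≫ e₁) = tY Y ≫ g₀ := by
    intro Y
    apply Over.OverMorphism.ext
    show ((toUnit Y).left ≫ e₁.left) ≫ pullback.fst G.hom π' = (Y.hom ≫ π) ≫ g₀.left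
    simp only [e₁, NilAction.ofBase, Over.homMk_left, Category.assoc, pullback.lift_fst]
    show (toUnit Y).left ≫ (_ ≫ π) ≫ g₀.left = _
    rw [← Category.assoc, ← Category.assoc, Over.w (toUnit Y)]
    exact Category.assoc _ _ _
  -- transporting commutation
  have hkey : ∀ (Y : Over (Spec (CommRingCat.of B'))) (h : Y ⟶ Red.bc π' H),
      Commute (tY Y ≫ g₀) (NilAction.toBase π' h ≫ u) → Commute (toUnit Y ≫ e₁) (h ≫ u') := by
    intro Y h hc
    have h1 : NilAction.ofBase π' ((tY Y ≫ g₀) * (NilAction.toBase π' h ≫ u)) =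
        NilAction.ofBase π' ((NilAction.toBase π' h ≫ u) * (tY Y ≫ g₀)) := congrArg _ hc
    rw [← he₁, ← Locus.toBase_map, ← NilAction.toBase_mul, ← NilAction.toBase_mul,
      NilAction.ofBase_toBase, NilAction.ofBase_toBase] at h1
    exact h1
  have hA : AgreeMod J u' (intBy e₁ u') := by
    intro Y q h
    rw [comp_intBy, (hkey Y h ?_).eq, mul_inv_cancel_right]
    let z := NilAction.toBase π' h
    obtain ⟨w, hw⟩ := Locus.factors_of_cover k.left (lift z (tY Y)).left fun y => by
      let P := Y.left.affineCover.X (Y.left.affineCover.idx y)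
      let o : Spec Γ(P, ⊤) ⟶ Y.left := P.isoSpec.inv ≫ Y.left.affineCover.f (Y.left.affineCover.idx y)
      refine ⟨_, o, inferInstance, ?_, ?_⟩
      · obtain ⟨y', hy⟩ := Y.left.affineCover.covers y
        obtain ⟨y'', rfl⟩ := P.isoSpec.inv.surjective y'
        exact ⟨y'', hy⟩
      let C : Type u := Γ(P, ⊤)
      obtain ⟨φ, hφ⟩ := Spec.map_surjective (o ≫ q.left)
      letI : Algebra B C := ((φ.hom.comp (Ideal.Quotient.mk J)).comp mk).toAlgebra
      have hC : ∀ r ∈ c, algebraMap B C r = 0 := fun r hr => by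
        show φ.hom (Ideal.Quotient.mk J (mk r)) = 0
        rw [Ideal.Quotient.eq_zero_iff_mem.2 (Ideal.mem_map_of_mem mk hr), map_zero]
      let xo : X (jB A B) C ⟶ HT := Over.homMk (o ≫ (lift z (tY Y)).left) (by
        show (o ≫ (lift z (tY Y)).left) ≫ (snd H T).left = Spec.map _ ≫ Spec.map _
        rw [Category.assoc, ← Over.comp_left, lift_snd]
        show o ≫ Y.hom ≫ π = _
        rw [← Over.w q]
        show o ≫ (q.left ≫ Spec.map (CommRingCat.ofHom (Ideal.Quotient.mk J))) ≫
          Spec.map (CommRingCat.ofHom (mk.comp (algebraMap A B))) = _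
        have e : ∀ {V : Scheme.{u}} (r : Spec (CommRingCat.of (B' ⧸ J)) ⟶ V), o ≫ q.left ≫ r = Spec.map φ ≫ r :=
          fun r => by rw [hφ]; exact (Category.assoc o q.left r).symm
        refine ((congrArg (o ≫ ·) (Category.assoc _ _ _)).trans (e _)).trans ?_
        rw [← Spec.map_comp, ← Spec.map_comp, ← Spec.map_comp]
        rfl)
      obtain ⟨w, hw⟩ := hall C hC xo
      exact ⟨w.left, congrArg (fun m => m.left) hw⟩
    exact (hiff _ _ _).1 ⟨w, hw⟩
  have hc' : ∀ (Y : Over (Spec (CommRingCat.of B'))) (_ : Y ⟶ Z m') (g : Y ⟶ Red.bc π' G) (h : Y ⟶ Red.bc π' H),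
      g * (h ≫ u') = (h ≫ u') * g := by
    intro Y q g h
    have h1 : NilAction.toBase π' g * (NilAction.toBase π' h ≫ u) = (NilAction.toBase π' h ≫ u) * NilAction.toBase π' g :=
      hp _ (tY Y) (overPt_of_kill (X := Over.mk (tY Y).left) p B hB ((Ideal.Quotient.mk m').comp mk)
        (fun r hr => Ideal.Quotient.eq_zero_iff_mem.2 (Ideal.mem_map_of_mem mk hr)) q.left (by
          show q.left ≫ _ = Y.hom ≫ π
          rw [← Over.w q]
          show _ = (q.left ≫ Spec.map _) ≫ Spec.map _
          rw [Category.assoc, ← Spec.map_comp]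
          rfl)) _ _
    have h2 := congrArg (NilAction.ofBase π') h1
    rwa [← Locus.toBase_map, ← NilAction.toBase_mul, ← NilAction.toBase_mul, NilAction.ofBase_toBase,
      NilAction.ofBase_toBase] at h2
  have he : u' = intBy e₁ u' :=
    eq_of_agree_sq_zero (locally_of_ft (MultTypeBC.isMultTypeFT_bc hH π')) J m' hJm hmJ u' _ hA hc'
  have key : ∀ (P : Scheme.{u}) (s : P ⟶ Spec (CommRingCat.of A)) (r : P ⟶ Spec (CommRingCat.of B')),
      r ≫ π = s → ∀ z : Over.mk ((Over.mk s).hom ≫ jT) ⟶ H, Commute (tX (Over.mk s) ≫ g₀) (z ≫ u) := by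
    intro P s r hrs z
    subst hrs
    let Y : Over (Spec (CommRingCat.of B')) := Over.mk r
    let d : Over.mk (Y.hom ≫ π') ⟶ Over.mk ((r ≫ π) ≫ jT) := Over.homMk (𝟙 P) (by
      show 𝟙 P ≫ (r ≫ π) ≫ jT = r ≫ π ≫ jT
      rw [Category.id_comp, Category.assoc])
    let d' : Over.mk ((r ≫ π) ≫ jT) ⟶ Over.mk (Y.hom ≫ π') := Over.homMk (𝟙 P) (by
      show 𝟙 P ≫ r ≫ π ≫ jT = (r ≫ π) ≫ jT
      rw [Category.id_comp, Category.assoc])
    have hdd : d' ≫ d = 𝟙 _ := Over.OverMorphism.ext (Category.id_comp _)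
    have hd : tX (Over.mk (r ≫ π)) = d' ≫ tY Y := Over.OverMorphism.ext (Category.id_comp (r ≫ π)).symm
    let h := NilAction.ofBase π' (d ≫ z)
    have h3 : h ≫ u' = h ≫ intBy e₁ u' := congrArg (h ≫ ·) he
    rw [comp_intBy, eq_mul_inv_iff_mul_eq] at h3
    have h4 := congrArg (NilAction.toBase π') h3
    rw [NilAction.toBase_mul, NilAction.toBase_mul, Locus.toBase_map, he₁, NilAction.toBase_ofBase] at h4
    have h5 := congrArg (d' ≫ ·) h4
    simp only [MonObj.comp_mul, Category.assoc, reassoc_of% hdd] at h5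
    show _ = _
    rw [hd, Category.assoc]
    exact h5.symm
  exact key _ (X (jB A B) C).hom (Spec.map (CommRingCat.ofHom (Ideal.Quotient.lift (m * c) (algebraMap B C) hC))) (by
    show Spec.map _ ≫ Spec.map _ = Spec.map _ ≫ Spec.map _
    rw [← Spec.map_comp, ← Spec.map_comp, ← CommRingCat.ofHom_comp, ← CommRingCat.ofHom_comp,
      ← RingHom.comp_assoc, Ideal.Quotient.lift_comp_mk]) (NilAction.toBase jT x)

end Nhd

section Cover

variable {K : Type u} [Field K] {G : Over (Spec (CommRingCat.of K))} [GrpObj G]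

/-- over a field, points of a connected group are locally products of two points in a given open -/
theorem exists_mul_cover [ConnectedSpace G.left] (O : G.left.Opens) (hO : (O : Set G.left).Nonempty)
    {X : Over (Spec (CommRingCat.of K))} (g : X ⟶ G) :
    ∃ (P : Over (Spec (CommRingCat.of K))) (q : P ⟶ X) (a b : P ⟶ G), Epi q.left ∧ q ≫ g = a * b ∧
      Set.range a.left ⊆ (O : Set G.left) ∧ Set.range b.left ⊆ (O : Set G.left) := by
  have := ConnIrred.irreducibleSpace G
  let d : G ⊗ X ⟶ G := (fst G X)⁻¹ * (snd G X ≫ g)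
  let Q : (G ⊗ X).left.Opens := (fst G X).left ⁻¹ᵁ O ⊓ d.left ⁻¹ᵁ O
  let P : Over (Spec (CommRingCat.of K)) := Over.mk (Q.ι ≫ (G ⊗ X).hom)
  let o : P ⟶ G ⊗ X := Over.homMk Q.ι rfl
  refine ⟨P, o ≫ snd G X, o ≫ fst G X, o ≫ d, ?_, ?_, ?_, ?_⟩
  · have : Flat (snd G X).left := by
      show Flat (pullback.snd G.hom X.hom)
      infer_instance
    have : Flat (o ≫ snd G X).left := inferInstanceAs (Flat (Q.ι ≫ (snd G X).left))
    have : Surjective (o ≫ snd G X).left := by
      refine ⟨fun x => ?_⟩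
      let z := g.left x
      obtain ⟨y, hy, hyO⟩ : ((fst G (Translate.pts z)).left '' ((Translate.psi z).left ⁻¹' (O : Set G.left)) ∩
          (O : Set G.left)).Nonempty := by
        refine nonempty_preirreducible_inter
          ((Translate.fst_props z).1 _ (O.2.preimage (Translate.psi z).left.continuous)) O.2 ?_ hO
        exact (Set.Nonempty.preimage hO (Translate.psi_props z).2.1).image _
      obtain ⟨w, hw, rfl⟩ := hy
      let Xp : Over (Spec (CommRingCat.of K)) := Over.mk (X.left.fromSpecResidueField x ≫ X.hom)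
      let iX : Xp ⟶ X := Over.homMk (X.left.fromSpecResidueField x) rfl
      let r : Xp ⟶ Translate.pts z := Over.homMk (Spec.map (g.left.residueFieldMap x)) (by
        show Spec.map _ ≫ G.left.fromSpecResidueField _ ≫ G.hom = _
        rw [Scheme.Hom.SpecMap_residueFieldMap_fromSpecResidueField_assoc, Over.w g]
        rfl)
      have hr : r ≫ Translate.pt z = iX ≫ g :=
        Over.OverMorphism.ext (Scheme.Hom.SpecMap_residueFieldMap_fromSpecResidueField _ _)
      have : Surjective r.left := ⟨fun c => ⟨IsLocalRing.closedPoint (X.left.residueField x),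
        Subsingleton.elim (α := PrimeSpectrum (G.left.residueField (g.left x))) _ _⟩⟩
      have : Surjective (G ◁ r).left := by
        have hp := (GrpBasics.isPullback_whiskerLeft G r).map (Over.forget _)
        first
          | exact MorphismProperty.of_isPullback hp ‹_›
          | exact MorphismProperty.of_isPullback hp.flip ‹_›
      obtain ⟨v, hv⟩ := (G ◁ r).left.surjective w
      have e1 : (G ◁ iX) ≫ fst G X = (G ◁ r) ≫ fst G (Translate.pts z) := by
        rw [whiskerLeft_fst, whiskerLeft_fst]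
      have e2 : (G ◁ iX) ≫ d = (G ◁ r) ≫ Translate.psi z := by
        simp only [d, Translate.psi, MonObj.comp_mul, GrpObj.comp_inv, whiskerLeft_fst, whiskerLeft_snd_assoc, hr]
      have hmem : (G ◁ iX).left v ∈ Q := by
        refine ⟨?_, ?_⟩
        · show ((G ◁ iX) ≫ fst G X).left v ∈ O
          rw [e1]
          show (fst G (Translate.pts z)).left ((G ◁ r).left v) ∈ O
          rw [hv]; exact hyO
        · show ((G ◁ iX) ≫ d).left v ∈ O
          rw [e2]
          show (Translate.psi z).left ((G ◁ r).left v) ∈ O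
          rw [hv]; exact hw
      refine ⟨(⟨(G ◁ iX).left v, hmem⟩ : Q), ?_⟩
      show ((G ◁ iX) ≫ snd G X).left v = x
      rw [whiskerLeft_snd]
      exact Scheme.fromSpecResidueField_apply x _
    exact Flat.epi_of_flat_of_surjective _
  · simp only [d, MonObj.comp_mul, GrpObj.comp_inv, Category.assoc]
    group
  · rintro _ ⟨c, rfl⟩
    exact c.2.1
  · rintro _ ⟨c, rfl⟩
    exact c.2.2

end Cover

section Central

variable {S : Scheme.{u}} {H G : Over S} [GrpObj H] [GrpObj G]

/-- central over an open neighbourhood -/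
theorem exists_nhd_central (hH : SGA3x.IsMultTypeFT H) [LocallyOfFiniteType G.hom]
    (hconn : ∀ t : S, ConnectedSpace ↥(pullback G.hom (S.fromSpecResidueField t)))
    (u : H ⟶ G) [IsMonHom u] (s : S)
    (hs : ∀ (X : Over S) (w : X.left ⟶ Spec (S.residueField s)), w ≫ S.fromSpecResidueField s = X.hom →
      ∀ (g : X ⟶ G) (h : X ⟶ H), g * (h ≫ u) = (h ≫ u) * g) :
    ∃ U : S.Opens, s ∈ U ∧ ∀ t ∈ U, ∀ (X : Over S) (w : X.left ⟶ Spec (S.residueField t)),
      w ≫ S.fromSpecResidueField t = X.hom → ∀ (g : X ⟶ G) (h : X ⟶ H), g * (h ≫ u) = (h ≫ u) * g := by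
  let e : S ⟶ G.left := η[G].left
  have he : e ≫ G.hom = 𝟙 S := GrpBasics.unit_comp_hom G
  obtain ⟨_, ⟨V, hV, rfl⟩, heV, -⟩ := G.left.isBasis_affineOpens.exists_subset_of_mem_open
    (show e s ∈ (⊤ : G.left.Opens) from trivial) (⊤ : G.left.Opens).2
  obtain ⟨p, hp⟩ : e s ∈ Set.range hV.fromSpec := hV.range_fromSpec.ge heV
  let A : Type u := Γ(G.left, V)
  let jT : Spec (CommRingCat.of A) ⟶ S := hV.fromSpec ≫ G.hom
  let g₀ : Over.mk jT ⟶ G := Over.homMk hV.fromSpec rfl
  let K := p.asIdeal.ResidueField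
  let ξ : Spec (CommRingCat.of K) ⟶ S := Spec.map (CommRingCat.ofHom (algebraMap A K)) ≫ jT
  have hξ : ξ (IsLocalRing.closedPoint K) = s := by
    show G.hom (hV.fromSpec (Spec.map (CommRingCat.ofHom (algebraMap A K)) (IsLocalRing.closedPoint K))) = s
    have h1 : Spec.map (CommRingCat.ofHom (algebraMap A K)) (IsLocalRing.closedPoint K) = p := by
      refine PrimeSpectrum.ext ?_
      show (IsLocalRing.maximalIdeal K).comap (algebraMap A K) = p.asIdeal
      rw [IsLocalRing.maximalIdeal_eq_bot]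
      exact Ideal.ker_algebraMap_residueField p.asIdeal
    rw [h1, hp, ← Scheme.Hom.comp_apply, he]
    rfl
  obtain ⟨w₀, hw₀⟩ : ∃ w₀ : Spec (CommRingCat.of K) ⟶ Spec (S.residueField s),
      w₀ ≫ S.fromSpecResidueField s = ξ := by
    subst hξ
    exact ⟨Spec.map _, Scheme.descResidueField_stalkClosedPointTo_fromSpecResidueField K S ξ⟩
  obtain ⟨f, hfp, hf⟩ := exists_nhd_commute hH u g₀ p.asIdeal (fun X t ht g h => by
    obtain ⟨w, hw⟩ := ht
    refine hs X (w ≫ w₀) ?_ g h
    rw [Category.assoc, hw₀, ← Over.w t]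
    show w ≫ Spec.map _ ≫ jT = t.left ≫ jT
    exact (Category.assoc _ _ _).symm.trans (congrArg (· ≫ jT) hw))
  let O : G.left.Opens := G.left.basicOpen f
  have hO : ∀ (X : Over S) (g : X ⟶ G) (h : X ⟶ H), Set.range g.left ⊆ (O : Set G.left) →
      Commute g (h ≫ u) := by
    intro X g h hg
    have hgV : Set.range g.left ⊆ Set.range hV.fromSpec :=
      hg.trans ((SetLike.coe_subset_coe.2 (G.left.basicOpen_le f)).trans hV.range_fromSpec.ge)
    let l := IsOpenImmersion.lift hV.fromSpec g.left hgV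
    have hl : l ≫ hV.fromSpec = g.left := IsOpenImmersion.lift_fac _ _ _
    let t : X ⟶ Over.mk jT := Over.homMk l (by
      show l ≫ hV.fromSpec ≫ G.hom = X.hom
      rw [reassoc_of% hl, Over.w g])
    rw [show g = t ≫ g₀ from Over.OverMorphism.ext hl.symm]
    refine hf X t (fun c hc => ?_) h
    obtain ⟨y, rfl⟩ := hc
    have h2 : l y ∈ hV.fromSpec ⁻¹ᵁ O := by
      show hV.fromSpec (l y) ∈ (O : Set G.left)
      rw [← Scheme.Hom.comp_apply, hl]
      exact hg ⟨y, rfl⟩
    rw [hV.fromSpec_preimage_basicOpen] at h2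
    exact h2
  refine ⟨e ⁻¹ᵁ O, ?_, fun t ht => comm_of_map (S.fromSpecResidueField t) u ?_⟩
  · show e s ∈ O
    have h1 : p ∈ hV.fromSpec ⁻¹ᵁ O := by
      rw [hV.fromSpec_preimage_basicOpen]
      exact hfp
    rw [← hp]
    exact h1
  let i := S.fromSpecResidueField t
  have : ConnectedSpace (Red.bc i G).left := hconn t
  let O' : (Red.bc i G).left.Opens := pullback.fst G.hom i ⁻¹ᵁ O
  have hne : (O' : Set (Red.bc i G).left).Nonempty := by
    let pt := IsLocalRing.closedPoint (S.residueField t)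
    refine ⟨(1 : 𝟙_ (Over (Spec (S.residueField t))) ⟶ (Red.bc i G)).left pt, ?_⟩
    show (NilAction.toBase i (1 : 𝟙_ (Over (Spec (S.residueField t))) ⟶ (Red.bc i G))).left pt ∈ O
    rw [NilAction.toBase_one, MonoFibres.one_left]
    show e (i pt) ∈ O
    rw [Scheme.fromSpecResidueField_apply]
    exact ht
  have hO' : ∀ (Y : Over (Spec (S.residueField t))) (g : Y ⟶ (Red.bc i G)) (h : Y ⟶ Red.bc i H),
      Set.range g.left ⊆ (O' : Set (Red.bc i G).left) → Commute g (h ≫ (Over.pullback i).map u) := by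
    intro Y g h hg
    have h1 : NilAction.toBase i g * (NilAction.toBase i h ≫ u) =
        (NilAction.toBase i h ≫ u) * NilAction.toBase i g :=
      hO _ (NilAction.toBase i g) (NilAction.toBase i h) (by
        rintro _ ⟨y, rfl⟩
        exact hg ⟨y, rfl⟩)
    have h2 := congrArg (NilAction.ofBase i) h1
    rw [← Locus.toBase_map, ← NilAction.toBase_mul, ← NilAction.toBase_mul, NilAction.ofBase_toBase,
      NilAction.ofBase_toBase] at h2
    exact h2
  intro Y g h
  letI : @GrpObj (Over (Spec (CommRingCat.of (S.residueField t)))) _ _ (Red.bc i G) :=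
    inferInstanceAs (GrpObj (Red.bc i G))
  obtain ⟨P, q, a, b, hq, hab, ha, hb⟩ := exists_mul_cover (K := S.residueField t) O' hne g
  have : Epi q := Over.epi_of_epi_left q
  rw [← cancel_epi q, MonObj.comp_mul, MonObj.comp_mul, hab, ← Category.assoc]
  exact ((hO' P a (q ≫ h) ha).mul_left (hO' P b (q ≫ h) hb)).eq

end Central

end Groth.L25.NhdEq
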