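import Groth.Agent.L25.NhdEq.Subgroup
import Groth.Agent.L25.Translate
import Groth.Agent.L19.Closure
import Mathlib.AlgebraicGeometry.ZariskisMainTheorem
import Mathlib.GroupTheory.FiniteAbelian.Basic

/-!
# Subgroups of multiplicative type are determined by their torsion
-/

set_option autoImplicit false
universe u

open CategoryTheory CategoryTheory.Limits MonoidalCategory CartesianMonoidalCategory MonObj GrpObj
open AlgebraicGeometry

set_option backward.isDefEq.respectTransparency.types false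

noncomputable section

namespace Groth.L25.NhdEq

open Groth.L25.Cocycle

/-- finitely generated abelian groups are residually finite -/
theorem exists_not_pow {M : Type} [CommGroup M] [Monoid.FG M] {m : M} (hm : m ≠ 1) :
    ∃ n : ℕ, 0 < n ∧ ∀ x : M, x ^ n ≠ m := by
  classical
  have : AddGroup.FG (Additive M) :=
    AddGroup.fg_iff_addMonoid_fg.2 (Monoid.fg_iff_add_fg.1 ‹_›)
  obtain ⟨r, idx, hidx, p, hp, e, ⟨eqv⟩⟩ := AddCommGroup.equiv_free_prod_directSum_zmod (Additive M)
  have : ∀ i, NeZero (p i ^ e i) := fun i => ⟨pow_ne_zero _ (hp i).ne_zero⟩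
  let F := DirectSum idx fun i : idx => ZMod (p i ^ e i)
  have hne : eqv (Additive.ofMul m) ≠ 0 := fun h => hm <| by
    have := eqv.injective (h.trans (map_zero eqv).symm)
    exact this
  have hx : ∀ (n : ℕ) (x : M), x ^ n = m → n • eqv (Additive.ofMul x) = eqv (Additive.ofMul m) := fun n x h => by
    rw [← map_nsmul, ← ofMul_pow, h]
  by_cases hf : (eqv (Additive.ofMul m)).1 = 0
  · let N := ∏ i, (p i ^ e i)
    refine ⟨N, Finset.prod_pos fun i _ => pow_pos (hp i).pos _, fun x h => hne ?_⟩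
    refine Prod.ext hf (DFinsupp.ext fun i => ?_)
    rw [← hx N x h]
    show (N • (eqv (Additive.ofMul x)).2) i = 0
    rw [DirectSum.smul_apply, nsmul_eq_mul,
      (ZMod.natCast_eq_zero_iff _ _).2 (Finset.dvd_prod_of_mem _ (Finset.mem_univ i)), zero_mul]
  · obtain ⟨k, hk⟩ := Finsupp.ne_iff.1 hf
    refine ⟨((eqv (Additive.ofMul m)).1 k).natAbs + 1, Nat.succ_pos _, fun x h => hk ?_⟩
    have h1 := congrArg (fun z => z.1 k) (hx _ x h)
    simp only [Prod.smul_fst, Finsupp.smul_apply, nsmul_eq_mul, Finsupp.coe_zero, Pi.zero_apply] at h1 ⊢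
    refine Int.eq_zero_of_abs_lt_dvd (Dvd.intro _ h1) ?_
    push_cast
    rw [← Int.natCast_natAbs]
    exact lt_add_one _

section Rel

variable {S : Scheme.{u}} {R : Type u} [CommRing R] {j : Spec (CommRingCat.of R) ⟶ S}
  {H₁ H₂ G : Over S} [GrpObj H₁] [GrpObj H₂] [GrpObj G] {M N : Type} [CommGroup M] [CommGroup N]
  (e₁ : Chart j H₁ M) (e₂ : Chart j H₂ N) (i₁ : H₁ ⟶ G) [IsMonHom i₁] (i₂ : H₂ ⟶ G) [IsMonHom i₂]

/-- the point of a character lies in the second subgroup -/
def Lands {C : Type u} [CommRing C] [Algebra R C] (χ : M →* C) : Prop :=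
  ∃ h' : X j C ⟶ H₂, h' ≫ i₂ = e₁.pt χ ≫ i₁

/-- all points killed by `n` lie in the second subgroup, over all algebras where `c` vanishes -/
def TorLands (n : ℕ) (C : Type u) [CommRing C] [Algebra R C] : Prop :=
  ∀ χ : M →* C, χ ^ n = 1 → Lands e₁ i₁ i₂ χ

theorem chart_one (e : Chart j H₁ M) (C : Type u) [CommRing C] [Algebra R C] : e.pt (1 : M →* C) = 1 := by
  have h := e.pt_mul (1 : M →* C) 1
  rw [_root_.one_mul] at h
  exact left_eq_mul.1 h

theorem chart_pow (e : Chart j H₁ M) {C : Type u} [CommRing C] [Algebra R C] (χ : M →* C) (n : ℕ) :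
    e.pt (χ ^ n) = e.pt χ ^ n := by
  induction n with
  | zero => rw [pow_zero, pow_zero, chart_one]
  | succ n ih => rw [pow_succ, pow_succ, e.pt_mul, ih]

theorem comp_pow {A B : Over S} [GrpObj A] [GrpObj B] {Y : Over S} (f : A ⟶ B) [IsMonHom f] (a : Y ⟶ A)
    (n : ℕ) : (a ^ n) ≫ f = (a ≫ f) ^ n := by
  induction n with
  | zero => rw [pow_zero, pow_zero, MonObj.one_comp]
  | succ n ih => rw [pow_succ, pow_succ, MonObj.mul_comp, ih]

include e₂ in
/-- the locus of the base where the torsion lands is closed -/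
theorem exists_torsion_ideal [IsSeparated G.hom] [Mono i₂.left] [Monoid.FG N] (n : ℕ) (hn : 0 < n) :
    ∃ c : Ideal R,
      (∀ (C : Type u) [CommRing C] [Algebra R C], (∀ r ∈ c, algebraMap R C r = 0) → TorLands e₁ i₁ i₂ n C) ∧
      ∀ (C : Type u) [CommRing C] [Algebra R C],
        (∀ (D : Type u) [CommRing D] [Algebra R D] (_ : C →ₐ[R] D), TorLands e₁ i₁ i₂ n D) →
          ∀ r ∈ c, algebraMap R C r = 0 := by
  classical
  have : Mono i₂ := Over.mono_of_mono_left i₂
  let P₁ := M ⧸ (powMonoidHom n : M →* M).range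
  let P₂ := N ⧸ (powMonoidHom n : N →* N).range
  let q₁ : M →* P₁ := QuotientGroup.mk' _
  let q₂ : N →* P₂ := QuotientGroup.mk' _
  have : Group.FG N := Group.fg_iff_monoid_fg.2 ‹_›
  have : Group.FG P₂ := Group.fg_of_surjective (f := q₂) (QuotientGroup.mk'_surjective _)
  have : Finite P₂ := by
    refine CommGroup.finite_of_fg_isMulTorsion P₂ fun x => ?_
    obtain ⟨y, rfl⟩ := QuotientGroup.mk'_surjective _ x
    refine isOfFinOrder_iff_pow_eq_one.2 ⟨n, hn, ?_⟩
    rw [← map_pow, QuotientGroup.mk'_apply, QuotientGroup.eq_one_iff]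
    exact ⟨y, rfl⟩
  let A₁ := MonoidAlgebra R P₁
  let A₂ := MonoidAlgebra R P₂
  let GR := Red.bc j G
  let u₂ : N →* A₂ := (MonoidAlgebra.of R P₂).comp q₂
  let u₁ : M →* A₁ := (MonoidAlgebra.of R P₁).comp q₁
  let y₂ : Spec (CommRingCat.of A₂) ⟶ GR.left :=
    pullback.lift (e₂.pt u₂ ≫ i₂).left (Spec.map (CommRingCat.ofHom (algebraMap R A₂))) (Over.w (e₂.pt u₂ ≫ i₂))
  let y₁ : Spec (CommRingCat.of A₁) ⟶ GR.left :=
    pullback.lift (e₁.pt u₁ ≫ i₁).left (Spec.map (CommRingCat.ofHom (algebraMap R A₁))) (Over.w (e₁.pt u₁ ≫ i₁))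
  -- the torsion of the second subgroup is closed in the group
  have : Mono y₂ := by
    constructor
    intro Z a b hab
    refine Z.affineCover.hom_ext _ _ fun z => ?_
    let C : Type u := Γ(Z.affineCover.X z, ⊤)
    let o : Spec (CommRingCat.of C) ⟶ Z := (Z.affineCover.X z).isoSpec.inv ≫ Z.affineCover.f z
    suffices h : o ≫ a = o ≫ b by
      simp only [o, Category.assoc] at h
      exact (cancel_epi _).1 h
    obtain ⟨α, hα⟩ := Spec.map_surjective (o ≫ a)
    obtain ⟨β, hβ⟩ := Spec.map_surjective (o ≫ b)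
    have hab' : Spec.map α ≫ y₂ = Spec.map β ≫ y₂ := by
      rw [hα, hβ, Category.assoc, hab]
      exact (Category.assoc _ _ _).symm
    have h2 := congrArg (· ≫ pullback.snd G.hom j) hab'
    simp only [y₂, Category.assoc, pullback.lift_snd, ← Spec.map_comp] at h2
    have h3 := congrArg (fun m => m.hom) (Spec.map_injective h2)
    simp only [CommRingCat.hom_comp, CommRingCat.hom_ofHom] at h3
    letI : Algebra R C := (α.hom.comp (algebraMap R A₂)).toAlgebra
    let α' : A₂ →ₐ[R] C := { α.hom with commutes' := fun r => rfl }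
    let β' : A₂ →ₐ[R] C := { β.hom with commutes' := fun r => (DFunLike.congr_fun h3 r).symm }
    have h4 : (mor j α' ≫ e₂.pt u₂) = (mor j β' ≫ e₂.pt u₂) := by
      apply Over.OverMorphism.ext
      rw [← cancel_mono i₂.left]
      have h5 := congrArg (· ≫ pullback.fst G.hom j) hab'
      simp only [y₂, Category.assoc, pullback.lift_fst] at h5
      show (Spec.map α ≫ (e₂.pt u₂).left) ≫ i₂.left = (Spec.map β ≫ (e₂.pt u₂).left) ≫ i₂.left
      simp only [Category.assoc]
      exact h5
    rw [e₂.nat, e₂.nat] at h4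
    have h6 : α' = β' := (MonoidAlgebra.lift R C P₂).symm.injective (MonoidHom.ext fun x => by
      obtain ⟨y, hy⟩ := QuotientGroup.mk'_surjective ((powMonoidHom n : N →* N).range) x
      rw [← hy]
      exact DFunLike.congr_fun ((e₂.bij C).1 h4) y)
    rw [← hα, ← hβ]
    congr 1
    exact CommRingCat.hom_ext (congrArg (fun f => f.toRingHom) h6)
  have : IsClosedImmersion y₂ := by
    have : IsSeparated GR.hom := MorphismProperty.pullback_snd _ _ ‹_›
    have : Module.Finite R A₂ := inferInstance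
    have h1 : IsProper (y₂ ≫ pullback.snd G.hom j) := by
      rw [pullback.lift_snd]
      have : IsFinite (Spec.map (CommRingCat.ofHom (algebraMap R A₂))) :=
        (IsFinite.SpecMap_iff _).2 (RingHom.finite_algebraMap.2 ‹_›)
      infer_instance
    have : IsProper y₂ := IsProper.of_comp y₂ (pullback.snd G.hom j)
    exact (IsClosedImmersion.iff_isProper_and_mono _).2 ⟨‹_›, ‹_›⟩
  obtain ⟨I, -, hI⟩ := Locus.exists_ideal_factors y₂ y₁
  let c : Ideal R := Ideal.span {r | ∃ y ∈ I, ∃ x, y.coeff x = r}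
  have hfac : ∀ (C : Type u) [CommRing C] [Algebra R C] (φ : A₁ →ₐ[R] C),
      Lands e₁ i₁ i₂ ((φ : A₁ →* C).comp u₁) ↔ ∀ y ∈ I, φ y = 0 := by
    intro C _ _ φ
    refine Iff.trans ?_ (hI C φ.toRingHom)
    have hfst : (Spec.map (CommRingCat.ofHom φ.toRingHom) ≫ y₁) ≫ pullback.fst G.hom j =
        (e₁.pt ((φ : A₁ →* C).comp u₁) ≫ i₁).left := by
      rw [Category.assoc, pullback.lift_fst, ← e₁.nat]
      exact (Category.assoc _ _ _).symm
    have hsnd : (Spec.map (CommRingCat.ofHom φ.toRingHom) ≫ y₁) ≫ pullback.snd G.hom j =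
        Spec.map (CommRingCat.ofHom (algebraMap R C)) := by
      rw [Category.assoc, pullback.lift_snd, ← Spec.map_comp, ← CommRingCat.ofHom_comp,
        AlgHom.toRingHom_eq_coe, AlgHom.comp_algebraMap]
    constructor
    · rintro ⟨h', hh⟩
      obtain ⟨ψ, rfl⟩ := (e₂.bij C).2 h'
      have hψn : ψ ^ n = 1 := (e₂.bij C).1 ((cancel_mono i₂).1 (by
        rw [chart_pow, comp_pow, hh, ← comp_pow, ← chart_pow]
        have : ((φ : A₁ →* C).comp u₁) ^ n = 1 := MonoidHom.ext fun m => by
          rw [MonoidHom.pow_apply, ← map_pow]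
          show φ (MonoidAlgebra.of R P₁ (q₁ (m ^ n))) = 1
          rw [show q₁ (m ^ n) = 1 from (QuotientGroup.eq_one_iff _).2 ⟨m, rfl⟩, map_one, map_one]
        rw [this, chart_one, chart_one, MonObj.one_comp, MonObj.one_comp]))
      let ψ' : P₂ →* C := QuotientGroup.lift _ ψ fun x hx => by
        obtain ⟨y, rfl⟩ := hx
        show ψ (y ^ n) = 1
        rw [map_pow, ← MonoidHom.pow_apply, hψn]; rfl
      let w := MonoidAlgebra.lift R C P₂ ψ'
      refine ⟨Spec.map (CommRingCat.ofHom w.toRingHom), ?_⟩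
      apply pullback.hom_ext
      · rw [hfst, Category.assoc, pullback.lift_fst, ← hh,
          show ψ = (w : A₂ →* C).comp u₂ from MonoidHom.ext fun y => ((MonoidAlgebra.lift_of (R := R) ψ' (q₂ y)).trans rfl).symm, ← e₂.nat]
        exact (Category.assoc _ _ _).symm
      · rw [hsnd, Category.assoc, pullback.lift_snd, ← Spec.map_comp, ← CommRingCat.ofHom_comp,
          AlgHom.toRingHom_eq_coe, AlgHom.comp_algebraMap]
    · rintro ⟨w, hw⟩
      obtain ⟨θ, rfl⟩ := Spec.map_surjective w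
      have h1 := congrArg (· ≫ pullback.snd G.hom j) hw
      simp only [hsnd] at h1
      simp only [y₂, Category.assoc, pullback.lift_snd, ← Spec.map_comp] at h1
      have h2 := congrArg (fun m => m.hom) (Spec.map_injective h1)
      simp only [CommRingCat.hom_comp, CommRingCat.hom_ofHom] at h2
      let θ' : A₂ →ₐ[R] C := { θ.hom with commutes' := fun r => DFunLike.congr_fun h2 r }
      refine ⟨mor j θ' ≫ e₂.pt u₂, Over.OverMorphism.ext ?_⟩
      rw [← hfst, ← hw]
      simp only [y₂, Category.assoc, pullback.lift_fst]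
      rfl
  refine ⟨c, fun C _ _ hC χ hχ => ?_, fun C _ _ hall r hr => ?_⟩
  · let χ' : P₁ →* C := QuotientGroup.lift _ χ fun x hx => by
      obtain ⟨y, rfl⟩ := hx
      show χ (y ^ n) = 1
      rw [map_pow, ← MonoidHom.pow_apply, hχ]; rfl
    let φ := MonoidAlgebra.lift R C P₁ χ'
    rw [show χ = (φ : A₁ →* C).comp u₁ from MonoidHom.ext fun y => ((MonoidAlgebra.lift_of (R := R) χ' (q₁ y)).trans rfl).symm]
    refine (hfac C φ).2 fun y hy => ?_
    rw [MonoidAlgebra.lift_apply]
    refine Finset.sum_eq_zero fun x _ => ?_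
    show y.coeff x • χ' x = 0
    rw [Algebra.smul_def, hC _ (Ideal.subset_span ⟨y, hy, x, rfl⟩), zero_mul]
  · let D := MonoidAlgebra C P₁
    let φ : A₁ →ₐ[R] D := MonoidAlgebra.lift R D P₁ (MonoidAlgebra.of C P₁)
    have hco : ∀ (y : A₁) (x : P₁), (φ y).coeff x = algebraMap R C (y.coeff x) := by
      intro y x
      induction y using MonoidAlgebra.induction_linear with
      | zero => simp
      | add a b ha hb =>
        rw [map_add, MonoidAlgebra.coeff_add, Finsupp.add_apply, ha, hb, ← map_add,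
          MonoidAlgebra.coeff_add, Finsupp.add_apply]
      | single a t =>
        rw [show φ = MonoidAlgebra.lift R D P₁ (MonoidAlgebra.of C P₁) from rfl, MonoidAlgebra.lift_single,
          Algebra.smul_def, IsScalarTower.algebraMap_apply R C D]
        simp [D, MonoidAlgebra.coe_algebraMap, MonoidAlgebra.single_mul_single,
          MonoidAlgebra.coeff_single, Finsupp.single_apply, apply_ite (algebraMap R C)]
    have h0 := (hfac D φ).1 (hall D (IsScalarTower.toAlgHom R C D) _ (MonoidHom.ext fun m => by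
      rw [MonoidHom.pow_apply, ← map_pow]
      show φ (MonoidAlgebra.of R P₁ (q₁ (m ^ n))) = 1
      rw [show q₁ (m ^ n) = 1 from (QuotientGroup.eq_one_iff _).2 ⟨m, rfl⟩, map_one, map_one]))
    refine (Ideal.span_le (I := RingHom.ker (algebraMap R C))).2 ?_ hr
    rintro _ ⟨y, hy, x, rfl⟩
    rw [SetLike.mem_coe, RingHom.mem_ker, ← hco, h0 y hy]
    simp

end Rel

section Field

variable {k : Type u} [Field k] {H₁ H₂ G : Over (Spec (CommRingCat.of k))} [GrpObj H₁] [GrpObj H₂] [GrpObj G]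
  {M : Type} [CommGroup M] [Monoid.FG M]
  (i₁ : H₁ ⟶ G) [IsMonHom i₁] (i₂ : H₂ ⟶ G) [IsMonHom i₂] [IsImmersion i₂.left]

/-- over a field a subgroup containing the torsion contains everything -/
theorem lands_of_torsion (e : Chart (𝟙 (Spec (CommRingCat.of k))) H₁ M)
    (hT : ∀ n : ℕ, 0 < n → ∀ (C : Type u) [CommRing C] [Algebra k C], TorLands e i₁ i₂ n C)
    (C : Type u) [CommRing C] [Algebra k C] (χ : M →* C) : Lands e i₁ i₂ χ := by
  classical
  have : Mono i₂ := Over.mono_of_mono_left i₂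
  let W : Over (Spec (CommRingCat.of k)) := Over.mk (pullback.fst i₁.left i₂.left ≫ H₁.hom)
  let κ : W ⟶ H₁ := Over.homMk (pullback.fst i₁.left i₂.left) rfl
  have : IsImmersion κ.left := inferInstanceAs (IsImmersion (pullback.fst i₁.left i₂.left))
  have : Mono κ := Over.mono_of_mono_left κ
  have hiff : ∀ {T : Over (Spec (CommRingCat.of k))} (x : T ⟶ H₁),
      (∃ w, w ≫ κ = x) ↔ ∃ h' : T ⟶ H₂, h' ≫ i₂ = x ≫ i₁ := by
    intro T x
    constructor
    · rintro ⟨w, rfl⟩
      refine ⟨Over.homMk (w.left ≫ pullback.snd i₁.left i₂.left) ?_, Over.OverMorphism.ext ?_⟩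
      · rw [← Over.w i₂, Category.assoc, ← pullback.condition_assoc, Over.w i₁]
        exact Over.w w
      · show (w.left ≫ pullback.snd _ _) ≫ i₂.left = (w.left ≫ pullback.fst _ _) ≫ i₁.left
        rw [Category.assoc, Category.assoc, pullback.condition]
    · rintro ⟨h', hh⟩
      exact ⟨Over.homMk (pullback.lift x.left h'.left (congrArg (fun m => m.left) hh).symm) (by
          show pullback.lift _ _ _ ≫ pullback.fst _ _ ≫ H₁.hom = T.hom
          rw [pullback.lift_fst_assoc, Over.w x]),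
        Over.OverMorphism.ext (pullback.lift_fst _ _ _)⟩
  obtain ⟨hgW, hmW⟩ := Locus.exists_subgroup κ (fun T x => ∃ h' : T ⟶ H₂, h' ≫ i₂ = x ≫ i₁) (fun T x => hiff x)
    ⟨1, by rw [MonObj.one_comp, MonObj.one_comp]⟩
    (fun T x y ⟨a, ha⟩ ⟨b, hb⟩ => ⟨a * b, by rw [MonObj.mul_comp, MonObj.mul_comp, ha, hb]⟩)
    (fun T x ⟨a, ha⟩ => ⟨a⁻¹, by rw [GrpObj.inv_comp, GrpObj.inv_comp, ha]⟩)
  have hclosed := Translate.isClosed_range_of_inter κ (O := κ.left.coborderRange) κ.left.coborderRange.2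
    (closure_inter_coborder (s := Set.range κ.left)).symm
  have : IsClosedImmersion κ.left := IsClosedImmersion.of_isPreimmersion κ.left hclosed
  let A := MonoidAlgebra k M
  let x₀ := e.pt (MonoidAlgebra.of k M : M →* A)
  obtain ⟨I, -, hI⟩ := Locus.exists_ideal_factors κ.left x₀.left
  have hfac : ∀ (C : Type u) [CommRing C] [Algebra k C] (φ : A →ₐ[k] C),
      Lands e i₁ i₂ ((φ : A →* C).comp (MonoidAlgebra.of k M)) ↔ ∀ y ∈ I, φ y = 0 := by
    intro C _ _ φ
    rw [Lands, ← hiff, ← e.nat]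
    refine Iff.trans ⟨?_, ?_⟩ (hI C φ.toRingHom)
    · rintro ⟨w, hw⟩
      exact ⟨w.left, congrArg (fun m => m.left) hw⟩
    · rintro ⟨w, hw⟩
      exact ⟨Over.homMk w (by rw [← Over.w κ, reassoc_of% hw]; exact Over.w (mor _ φ ≫ x₀)),
        Over.OverMorphism.ext hw⟩
  have hI0 : ∀ y ∈ I, y = 0 := by
    intro y hy
    by_contra hne
    obtain ⟨m, hm⟩ := Finsupp.ne_iff.1 (show y.coeff ≠ 0 from fun h => hne (MonoidAlgebra.ext h))
    rw [Finsupp.coe_zero, Pi.zero_apply] at hm
    -- an exponent separating the support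
    let D := (y.coeff.support.erase m).image fun x => x * m⁻¹
    have hD : ∀ d ∈ D, ∃ n : ℕ, 0 < n ∧ ∀ x : M, x ^ n ≠ d := fun d hd => by
      obtain ⟨x, hx, rfl⟩ := Finset.mem_image.1 hd
      exact exists_not_pow fun h => (Finset.mem_erase.1 hx).1 (mul_inv_eq_one.1 h)
    choose! nd hnd hnd' using hD
    let n := ∏ d ∈ D, nd d
    let P := M ⧸ (powMonoidHom n : M →* M).range
    let q : M →* P := QuotientGroup.mk' _
    let φ : A →ₐ[k] MonoidAlgebra k P :=
      MonoidAlgebra.lift k _ M ((MonoidAlgebra.of k P).comp q)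
    have h0 := (hfac _ φ).1 (hT n (Finset.prod_pos hnd) _ _ (MonoidHom.ext fun x => by
      rw [MonoidHom.pow_apply, ← map_pow]
      show φ (MonoidAlgebra.of k M (x ^ n)) = 1
      rw [MonoidAlgebra.lift_of, MonoidHom.comp_apply,
        show q (x ^ n) = 1 from (QuotientGroup.eq_one_iff _).2 ⟨x, rfl⟩, map_one])) y hy
    refine hm ?_
    have h1 := congrArg (fun z => z.coeff (q m)) h0
    rw [MonoidAlgebra.lift_apply] at h1
    simp only [Finsupp.sum, MonoidAlgebra.coeff_sum, Finsupp.finsetSum_apply, MonoidHom.comp_apply,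
      MonoidAlgebra.of_apply, MonoidAlgebra.coeff_smul, MonoidAlgebra.coeff_single, Finsupp.smul_apply,
      Finsupp.single_apply, smul_eq_mul, mul_ite, mul_one, mul_zero, MonoidAlgebra.coeff_zero,
      Finsupp.coe_zero, Pi.zero_apply] at h1
    rw [Finset.sum_eq_single m] at h1
    · simpa using h1
    · intro x hx hxm
      rw [if_neg]
      intro hq
      have hd : x * m⁻¹ ∈ D := Finset.mem_image.2 ⟨x, Finset.mem_erase.2 ⟨hxm, hx⟩, rfl⟩
      have h2 : x * m⁻¹ ∈ (powMonoidHom n : M →* M).range := by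
        rw [← QuotientGroup.eq_one_iff]
        show q (x * m⁻¹) = 1
        rw [map_mul, map_inv, hq, mul_inv_cancel]
      obtain ⟨z, hz⟩ := h2
      obtain ⟨l, hl⟩ := Finset.dvd_prod_of_mem nd hd
      refine hnd' _ hd (z ^ l) ?_
      rw [← pow_mul, mul_comm l, ← hl]
      exact hz
    · intro h
      rw [Finsupp.notMem_support_iff.1 h]
      simp
  rw [show χ = ((MonoidAlgebra.lift k C M χ : A →* C).comp (MonoidAlgebra.of k M)) from
    MonoidHom.ext fun x => (MonoidAlgebra.lift_of χ x).symm]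
  exact (hfac C _).2 fun y hy => by rw [hI0 y hy, map_zero]

end Field

end Groth.L25.NhdEq
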