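import Mathlib.Algebra.MonoidAlgebra.Basic
import Mathlib.Algebra.MonoidAlgebra.NoZeroDivisors
import Mathlib.Algebra.Group.UniqueProds.Basic
import Mathlib.GroupTheory.FiniteAbelian.Basic
import Mathlib.RingTheory.FiniteType
import Mathlib.RingTheory.Flat.FaithfullyFlat.Algebra
import Mathlib.RingTheory.Flat.Localization
import Mathlib.RingTheory.RingHom.FaithfullyFlat
import Mathlib.RingTheory.Ideal.GoingUp
import Mathlib.RingTheory.Jacobson.Ring
import Mathlib.RingTheory.Nullstellensatz
import Mathlib.RingTheory.LocalRing.ResidueField.Ideal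
import Mathlib.RingTheory.TensorProduct.MonoidAlgebra
import Mathlib.FieldTheory.IsAlgClosed.AlgebraicClosure

/-!
# Points of a diagonalisable group over a local ring as products of points in a principal open subset
-/

set_option autoImplicit false
universe u

noncomputable section

namespace Groth.L25.NhdEq

variable {B : Type u} [CommRing B] [IsLocalRing B] {M : Type} [CommGroup M]

/-- the value of a function at a character -/
abbrev ev {C : Type u} [CommRing C] [Algebra B C] (χ : M →* C) (a : MonoidAlgebra B M) : C :=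
  MonoidAlgebra.lift B C M χ a

theorem ev_comp {C D : Type u} [CommRing C] [Algebra B C] [CommRing D] [Algebra B D] (h : C →ₐ[B] D)
    (χ : M →* C) (a : MonoidAlgebra B M) : ev ((h : C →* D).comp χ) a = h (ev χ a) := by
  induction a using MonoidAlgebra.induction_linear with
  | zero => simp [ev]
  | add p q hp hq =>
    simp only [ev, map_add] at hp hq ⊢
    rw [hp, hq]
  | single m r =>
    simp [ev, MonoidAlgebra.lift_single, Algebra.smul_def]

/-- `a` is congruent to `1` modulo the maximal ideal -/
def IsOneMod (a : MonoidAlgebra B M) : Prop :=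
  a - 1 ∈ (IsLocalRing.maximalIdeal B).map (algebraMap B (MonoidAlgebra B M))

/-- a function congruent to `1` is invertible at the torsion points -/
theorem isUnit_ev_torsion [Monoid.FG M] {a : MonoidAlgebra B M} (ha : IsOneMod a) {C : Type u}
    [CommRing C] [Algebra B C] (ξ : M →* C) {n : ℕ} (hn : 0 < n) (hξ : ∀ m, ξ m ^ n = 1) :
    IsUnit (ev ξ a) := by
  let A := Algebra.adjoin B (Set.range ξ)
  let ξA : M →* A :=
    { toFun := fun m => ⟨ξ m, Algebra.subset_adjoin ⟨m, rfl⟩⟩
      map_one' := Subtype.ext ξ.map_one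
      map_mul' := fun a b => Subtype.ext (ξ.map_mul a b) }
  have : Algebra.IsIntegral B A := by
    refine ⟨fun x => ?_⟩
    have hle : A ≤ integralClosure B C := Algebra.adjoin_le fun y hy => by
      obtain ⟨m, rfl⟩ := hy
      exact IsIntegral.of_pow hn (by rw [hξ]; exact isIntegral_one)
    exact (isIntegral_algHom_iff A.val Subtype.val_injective).1 (hle x.2)
  have hu : IsUnit (ev ξA a) := by
    by_contra hne
    obtain ⟨Q, hQ, haQ⟩ := exists_max_ideal_of_mem_nonunits hne
    have hQm : Q.comap (algebraMap B A) = IsLocalRing.maximalIdeal B :=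
      IsLocalRing.eq_maximalIdeal (Ideal.isMaximal_comap_of_isIntegral_of_isMaximal Q)
    have hle : (IsLocalRing.maximalIdeal B).map (algebraMap B (MonoidAlgebra B M)) ≤
        Q.comap (MonoidAlgebra.lift B A M ξA) := by
      rw [Ideal.map_le_iff_le_comap]
      intro r hr
      rw [Ideal.mem_comap, Ideal.mem_comap, AlgHom.commutes]
      rw [← hQm] at hr
      exact hr
    have h1 := hle ha
    rw [Ideal.mem_comap, map_sub, map_one] at h1
    exact hQ.ne_top ((Ideal.eq_top_iff_one Q).2 (by simpa using Q.sub_mem haQ h1))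
  have h2 := hu.map A.val
  rwa [← ev_comp, show ((A.val : A →* C).comp ξA) = ξ from rfl] at h2

/-- a point of a torus over an algebraically closed field avoiding a non-zero function -/
theorem exists_point {L : Type u} [Field L] [IsAlgClosed L] {F : Type} [CommGroup F] [Monoid.FG F]
    [UniqueProds F] (b : MonoidAlgebra L F) (hb : b ≠ 0) :
    ∃ t : MonoidAlgebra L F →ₐ[L] L, t b ≠ 0 := by
  have : Algebra.FiniteType L (MonoidAlgebra L F) := inferInstance
  have : IsDomain (MonoidAlgebra L F) := NoZeroDivisors.to_isDomain _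
  have : IsJacobsonRing (MonoidAlgebra L F) := isJacobsonRing_of_finiteType (A := L)
  by_contra hne
  push Not at hne
  apply hb
  have hnil : b ∈ (⊥ : Ideal (MonoidAlgebra L F)).jacobson := by
    rw [Ideal.jacobson, Submodule.mem_sInf]
    rintro m ⟨-, hm⟩
    have := hm
    letI := Ideal.Quotient.field m
    have : Algebra.FiniteType L (MonoidAlgebra L F ⧸ m) :=
      .of_surjective (Ideal.Quotient.mkₐ L m) (Ideal.Quotient.mkₐ_surjective L m)
    have : Module.Finite L (MonoidAlgebra L F ⧸ m) := finite_of_finite_type_of_isJacobsonRing L _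
    let e : L ≃ₐ[L] MonoidAlgebra L F ⧸ m := AlgEquiv.ofBijective (Algebra.ofId L _)
      IsAlgClosed.algebraMap_bijective_of_isIntegral
    have h1 := hne (e.symm.toAlgHom.comp (Ideal.Quotient.mkₐ L m))
    exact Ideal.Quotient.eq_zero_iff_mem.1 (e.symm.injective (h1.trans (map_zero _).symm))
  rwa [IsJacobsonRing.out' _ (Ideal.IsPrime.isRadical Ideal.isPrime_bot), Ideal.mem_bot] at hnil

/-- over an algebraically closed field every point is a product of two points where `a` does not
vanish -/
theorem exists_split [Monoid.FG M] {a : MonoidAlgebra B M} (ha : IsOneMod a) {L : Type u} [Field L]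
    [IsAlgClosed L] [Algebra B L] (χ : M →* L) :
    ∃ ψ ψ' : M →* L, ψ * ψ' = χ ∧ ev ψ a ≠ 0 ∧ ev ψ' a ≠ 0 := by
  classical
  have : AddGroup.FG (Additive M) := AddGroup.fg_iff_addMonoid_fg.2 (Monoid.fg_iff_add_fg.1 ‹_›)
  obtain ⟨r, ι, _, p, hp, e, ⟨f⟩⟩ := AddCommGroup.equiv_free_prod_directSum_zmod (Additive M)
  let F := Multiplicative (Fin r →₀ ℤ)
  let G := DirectSum ι fun i => ZMod (p i ^ e i)
  have : ∀ i, NeZero (p i ^ e i) := fun i => ⟨pow_ne_zero _ (hp i).ne_zero⟩
  have : Finite G := Finite.of_injective _ DFunLike.coe_injective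
  let n := Nat.card G
  have hn : 0 < n := Nat.card_pos
  -- the free part
  let π : M →* F := (AddMonoidHom.toMultiplicative
    ((AddMonoidHom.fst _ G).comp f.toAddMonoidHom)).comp
    (MulEquiv.refl M : M ≃* Multiplicative (Additive M)).toMonoidHom
  let s : F →* M :=
    { toFun := fun x => Additive.toMul (f.symm (x.toAdd, 0))
      map_one' := by simp
      map_mul' := fun x y => by
        rw [← toMul_add, ← map_add, Prod.mk_add_mk, add_zero]
        rfl }
  have hπs : ∀ x, π (s x) = x := fun x => by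
    show Multiplicative.ofAdd (f (f.symm (x.toAdd, 0))).1 = x
    rw [AddEquiv.apply_symm_apply]
    exact ofAdd_toAdd x
  have htors : ∀ m, (m * (s (π m))⁻¹) ^ n = 1 := by
    intro m
    apply (Additive.ofMul).injective
    apply f.injective
    rw [ofMul_pow, map_nsmul, ofMul_mul, ofMul_inv, map_add, map_neg]
    show n • (f (Additive.ofMul m) + -f (f.symm ((f (Additive.ofMul m)).1, 0))) = f (Additive.ofMul 1)
    rw [AddEquiv.apply_symm_apply, ofMul_one, map_zero]
    refine Prod.ext ?_ ?_
    · show n • ((f (Additive.ofMul m)).1 + -(f (Additive.ofMul m)).1) = 0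
      rw [add_neg_cancel, smul_zero]
    · exact card_nsmul_eq_zero'
  let χF : M →* L := (χ.comp s).comp π
  let ξ : M →* L :=
    { toFun := fun m => χ (m * (s (π m))⁻¹)
      map_one' := by simp
      map_mul' := fun x y => by
        rw [map_mul π, map_mul s, mul_inv, mul_mul_mul_comm, map_mul χ] }
  have hχ : ∀ m, χF m * ξ m = χ m := fun m => by
    show χ (s (π m)) * χ (m * (s (π m))⁻¹) = χ m
    rw [← map_mul, mul_comm m, mul_inv_cancel_left]
  have hξ : ∀ m, ξ m ^ n = 1 := fun m => by
    show χ _ ^ n = 1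
    rw [← map_pow, htors, map_one]
  letI : Algebra B (MonoidAlgebra L F) := inferInstance
  let P : M →* MonoidAlgebra L F := (MonoidAlgebra.of L F).comp π
  let Q : M →* MonoidAlgebra L F :=
    ((MonoidAlgebra.of L F).comp (π⁻¹)) * ((algebraMap L (MonoidAlgebra L F) : L →* _).comp χ)
  have hPQ : ∀ (t : MonoidAlgebra L F →ₐ[L] L) (m : M), t (P m) * t (Q m) = χ m := by
    intro t m
    rw [← map_mul]
    have : P m * Q m = algebraMap L (MonoidAlgebra L F) (χ m) := by
      show MonoidAlgebra.of L F (π m) * (MonoidAlgebra.of L F (π m)⁻¹ * algebraMap L _ (χ m)) = _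
      rw [← mul_assoc, ← map_mul, mul_inv_cancel, map_one, one_mul]
    rw [this, AlgHom.commutes]
    rfl
  have hev : ∀ (t : MonoidAlgebra L F →ₐ[L] L) (ψ : M →* MonoidAlgebra L F),
      ev ((t : MonoidAlgebra L F →* L).comp ψ) a = t (ev ψ a) :=
    fun t ψ => ev_comp (t.restrictScalars B) ψ a
  let t₁ : MonoidAlgebra L F →ₐ[L] L := MonoidAlgebra.lift L L F 1
  let t₂ : MonoidAlgebra L F →ₐ[L] L := MonoidAlgebra.lift L L F (χ.comp s)
  have hP : ev P a ≠ 0 := by
    intro h0
    have h1 := hev t₁ P
    rw [h0, map_zero] at h1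
    refine (isUnit_ev_torsion ha (1 : M →* L) hn fun m => one_pow n).ne_zero ?_
    convert h1 using 2
    refine MonoidHom.ext fun m => ?_
    simp [t₁, P]
  have hQ : ev Q a ≠ 0 := by
    intro h0
    have h1 := hev t₂ Q
    rw [h0, map_zero] at h1
    refine (isUnit_ev_torsion ha ξ hn hξ).ne_zero ?_
    convert h1 using 2
    refine MonoidHom.ext fun m => ?_
    have h2 : t₂ (Q m) = (χ (s (π m)))⁻¹ * χ m := by
      show t₂ (MonoidAlgebra.of L F (π m)⁻¹ * algebraMap L _ (χ m)) = _
      rw [map_mul, AlgHom.commutes]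
      show MonoidAlgebra.lift L L F (χ.comp s) (MonoidAlgebra.of L F (π m)⁻¹) * χ m = _
      rw [MonoidAlgebra.lift_of, MonoidHom.comp_apply, map_inv]
      congr 1
      exact map_inv χ (s (π m)) ▸ rfl
    show ξ m = t₂ (Q m)
    rw [h2, ← hχ m]
    have hne : χ (s (π m)) ≠ 0 := (IsUnit.map χ (Group.isUnit _)).ne_zero
    show ξ m = (χ (s (π m)))⁻¹ * (χ (s (π m)) * ξ m)
    rw [← mul_assoc, inv_mul_cancel₀ hne, one_mul]
  have : IsDomain (MonoidAlgebra L F) := NoZeroDivisors.to_isDomain _
  have : Monoid.FG F := AddMonoid.fg_iff_mul_fg.1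
    (AddGroup.fg_iff_addMonoid_fg.1 (Module.Finite.iff_addGroup_fg.1 inferInstance))
  obtain ⟨t, ht⟩ := exists_point _ (mul_ne_zero hP hQ)
  rw [map_mul, mul_ne_zero_iff, ← hev, ← hev] at ht
  exact ⟨_, _, MonoidHom.ext fun m => hPQ t m, ht.1, ht.2⟩

/-- faithfully flatly, every point is a product of two points where `a` is invertible -/
theorem exists_cover [Monoid.FG M] {a : MonoidAlgebra B M} (ha : IsOneMod a) (C : Type u) [CommRing C]
    [Algebra B C] (χ : M →* C) :
    ∃ (D : Type u) (_ : CommRing D) (_ : Algebra B D) (i : C →ₐ[B] D), i.toRingHom.FaithfullyFlat ∧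
      ∃ ψ ψ' : M →* D, ψ * ψ' = (i : C →* D).comp χ ∧ IsUnit (ev ψ a) ∧ IsUnit (ev ψ' a) := by
  let E := MonoidAlgebra C M
  let P : M →* E := MonoidAlgebra.of C M
  let Q : M →* E := ((MonoidAlgebra.of C M).comp (MonoidHom.id M)⁻¹) * ((algebraMap C E : C →* E).comp χ)
  let b : E := ev P a * ev Q a
  let D := Localization.Away b
  let j : E →ₐ[B] D := IsScalarTower.toAlgHom B E D
  let i : C →ₐ[B] D := IsScalarTower.toAlgHom B C D
  refine ⟨D, inferInstance, inferInstance, i, ?_, (j : E →* D).comp P, (j : E →* D).comp Q, ?_, ?_, ?_⟩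
  · show (algebraMap C D).FaithfullyFlat
    rw [RingHom.faithfullyFlat_algebraMap_iff]
    have : Module.Flat C D := Module.Flat.trans C E D
    refine Module.FaithfullyFlat.of_comap_surjective fun p => ?_
    let L := AlgebraicClosure p.asIdeal.ResidueField
    letI : Algebra B p.asIdeal.ResidueField := inferInstance
    obtain ⟨ψ, ψ', h1, h2, h3⟩ := exists_split (L := L) ha ((algebraMap C L : C →* L).comp χ)
    let φ : E →ₐ[C] L := MonoidAlgebra.lift C L M ψ
    let φB : E →ₐ[B] L := φ.restrictScalars B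
    have hP : φ (ev P a) = ev ψ a := by
      show φB (ev P a) = _
      rw [← ev_comp]
      congr 2
      refine MonoidHom.ext fun m => ?_
      exact MonoidAlgebra.lift_of (R := C) ψ m
    have hQ : φ (ev Q a) = ev ψ' a := by
      show φB (ev Q a) = _
      rw [← ev_comp]
      congr 2
      refine MonoidHom.ext fun m => ?_
      show φ (MonoidAlgebra.of C M m⁻¹ * algebraMap C E (χ m)) = ψ' m
      rw [map_mul, AlgHom.commutes]
      show MonoidAlgebra.lift C L M ψ (MonoidAlgebra.of C M m⁻¹) * _ = _
      rw [MonoidAlgebra.lift_of]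
      have h4 : ψ m * ψ' m = algebraMap C L (χ m) := DFunLike.congr_fun h1 m
      rw [← h4, ← mul_assoc, ← map_mul, inv_mul_cancel, map_one, one_mul]
    have hb : φ b ≠ 0 := by
      rw [map_mul, hP, hQ]
      exact mul_ne_zero h2 h3
    let φD : D →+* L := IsLocalization.Away.lift b (g := φ.toRingHom) (Ne.isUnit hb)
    refine ⟨⟨RingHom.ker φD, RingHom.ker_isPrime _⟩, PrimeSpectrum.ext ?_⟩
    show (RingHom.ker φD).comap (algebraMap C D) = p.asIdeal
    ext c
    rw [Ideal.mem_comap, RingHom.mem_ker, IsScalarTower.algebraMap_apply C E D,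
      IsLocalization.Away.lift_eq]
    show φ (algebraMap C E c) = 0 ↔ _
    rw [AlgHom.commutes, IsScalarTower.algebraMap_apply C p.asIdeal.ResidueField L,
      map_eq_zero_iff _ (algebraMap p.asIdeal.ResidueField L).injective,
      Ideal.algebraMap_residueField_eq_zero]
  · refine MonoidHom.ext fun m => ?_
    show j (P m) * j (Q m) = i (χ m)
    have : P m * Q m = algebraMap C E (χ m) := by
      show MonoidAlgebra.of C M m * (MonoidAlgebra.of C M m⁻¹ * algebraMap C E (χ m)) = _
      rw [← mul_assoc, ← map_mul, mul_inv_cancel, map_one, one_mul]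
    rw [← map_mul, this]
    exact (IsScalarTower.algebraMap_apply C E D (χ m)).symm
  · rw [ev_comp]
    exact isUnit_of_mul_isUnit_left (y := j (ev Q a))
      (by rw [← map_mul]; exact IsLocalization.map_units (M := Submonoid.powers b) D ⟨b, 1, pow_one b⟩)
  · rw [ev_comp]
    exact isUnit_of_mul_isUnit_right (x := j (ev P a))
      (by rw [← map_mul]; exact IsLocalization.map_units (M := Submonoid.powers b) D ⟨b, 1, pow_one b⟩)

end Groth.L25.NhdEq
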