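import Groth.Agent.L25.NhdEq.Cover
import Groth.Agent.L25.Cocycle.Charts
import Groth.Agent.L25.Locus.Factor
import Groth.Agent.L20.FibreScheme
import Mathlib.AlgebraicGeometry.Morphisms.Immersion
import Mathlib.RingTheory.Nakayama

/-!
# A subgroup containing the closed fibre and stable under thickening is everything, over a local ring
-/

set_option autoImplicit false
universe u

open CategoryTheory CategoryTheory.Limits MonoidalCategory CartesianMonoidalCategory MonObj GrpObj
open AlgebraicGeometry

set_option backward.isDefEq.respectTransparency.types false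

noncomputable section

namespace Groth.L25.NhdEq

open Groth.L25.Cocycle

variable {S : Scheme.{u}} {B : Type u} [CommRing B] {j : Spec (CommRingCat.of B) ⟶ S} {H W : Over S}
  [GrpObj H] {M : Type} [CommGroup M]

/-- a point factors through a subobject -/
def Fac (e : Chart j H M) (k : W ⟶ H) {C : Type u} [CommRing C] [Algebra B C] (χ : M →* C) : Prop :=
  ∃ w, w ≫ k = e.pt χ

/-- factorisation can be checked faithfully flatly -/
theorem Fac.of_ff (e : Chart j H M) (k : W ⟶ H) [Mono k.left] {C D : Type u} [CommRing C] [Algebra B C]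
    [CommRing D] [Algebra B D] (i : C →ₐ[B] D) (hi : i.toRingHom.FaithfullyFlat) (χ : M →* C)
    (h : Fac e k ((i : C →* D).comp χ)) : Fac e k χ := by
  obtain ⟨w, hw⟩ := h
  obtain ⟨hf, hs⟩ := (RingHom.FaithfullyFlat.iff_flat_and_comap_surjective).1 hi
  have : Flat (Spec.map (CommRingCat.ofHom i.toRingHom)) := by
    rw [HasRingHomProperty.Spec_iff (P := @Flat)]
    exact hf
  have : Surjective (Spec.map (CommRingCat.ofHom i.toRingHom)) := ⟨hs⟩
  have : QuasiCompact (Spec.map (CommRingCat.ofHom i.toRingHom)) := by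
    have : IsAffineHom (Spec.map (CommRingCat.ofHom i.toRingHom)) := isAffineHom_of_isAffine _
    infer_instance
  obtain ⟨m, hm⟩ := Locus.factors_of_flat_surjective k.left (e.pt χ).left
    (Spec.map (CommRingCat.ofHom i.toRingHom)) w.left (by
      rw [← e.nat] at hw
      exact congrArg (fun z => z.left) hw)
  exact ⟨Over.homMk m (by rw [← Over.w k, reassoc_of% hm, Over.w (e.pt χ)]), Over.OverMorphism.ext hm⟩

variable [IsLocalRing B]

/-- all points factor if those at which `a` is invertible do -/
theorem fac_of_unit [Monoid.FG M] (e : Chart j H M) (k : W ⟶ H) [Mono k.left]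
    (hmul : ∀ (T : Over S) (a b : T ⟶ H), (∃ w, w ≫ k = a) → (∃ w, w ≫ k = b) → ∃ w, w ≫ k = a * b)
    {a : MonoidAlgebra B M} (ha : IsOneMod a) (c : Ideal B)
    (h : ∀ (C : Type u) [CommRing C] [Algebra B C], (∀ r ∈ c, algebraMap B C r = 0) →
      ∀ χ : M →* C, IsUnit (ev χ a) → Fac e k χ)
    (C : Type u) [CommRing C] [Algebra B C] (hC : ∀ r ∈ c, algebraMap B C r = 0) (χ : M →* C) :
    Fac e k χ := by
  obtain ⟨D, _, _, i, hi, ψ, ψ', hψ, h1, h2⟩ := exists_cover ha C χ
  refine Fac.of_ff e k i hi χ ?_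
  have hD : ∀ r ∈ c, algebraMap B D r = 0 := fun r hr => by rw [← i.commutes, hC r hr, map_zero]
  rw [Fac, ← hψ, e.pt_mul]
  exact hmul _ _ _ (h D hD ψ h1) (h D hD ψ' h2)

/-- the local statement -/
theorem fac_of_local [Monoid.FG M] (e : Chart j H M) (k : W ⟶ H) [IsImmersion k.left]
    [LocallyOfFinitePresentation k.left]
    (hmul : ∀ (T : Over S) (a b : T ⟶ H), (∃ w, w ≫ k = a) → (∃ w, w ≫ k = b) → ∃ w, w ≫ k = a * b)
    (hfib : ∀ (C : Type u) [CommRing C] [Algebra B C],
      (∀ r ∈ IsLocalRing.maximalIdeal B, algebraMap B C r = 0) → ∀ χ : M →* C, Fac e k χ)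
    (hstep : ∀ c : Ideal B, c.FG → c ≤ IsLocalRing.maximalIdeal B →
      (∀ (C : Type u) [CommRing C] [Algebra B C], (∀ r ∈ c, algebraMap B C r = 0) →
        ∀ χ : M →* C, Fac e k χ) →
      ∀ (C : Type u) [CommRing C] [Algebra B C],
        (∀ r ∈ IsLocalRing.maximalIdeal B * c, algebraMap B C r = 0) → ∀ χ : M →* C, Fac e k χ)
    (C : Type u) [CommRing C] [Algebra B C] (χ : M →* C) : Fac e k χ := by
  classical
  let m := IsLocalRing.maximalIdeal B
  let A := MonoidAlgebra B M
  let f₀ : Spec (CommRingCat.of A) ⟶ H.left := (e.pt (MonoidAlgebra.of B M : M →* A)).left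
  have hpt : ∀ (C : Type u) [CommRing C] [Algebra B C] (χ : M →* C),
      (e.pt χ).left = Spec.map (CommRingCat.ofHom (MonoidAlgebra.lift B C M χ).toRingHom) ≫ f₀ := by
    intro C _ _ χ
    have h1 : ((MonoidAlgebra.lift B C M χ : A →* C).comp (MonoidAlgebra.of B M)) = χ :=
      MonoidHom.ext fun x => MonoidAlgebra.lift_of χ x
    conv_lhs => rw [← h1, ← e.nat]
    rfl
  let O := k.left.coborderRange
  let kO := k.left.liftCoborder
  have hkO : kO ≫ O.ι = k.left := Scheme.Hom.liftCoborder_ι _
  have : LocallyOfFinitePresentation kO := by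
    have : LocallyOfFinitePresentation (kO ≫ O.ι) := by rw [hkO]; infer_instance
    exact Groth.L20.locallyOfFinitePresentation_of_comp kO O.ι
  -- the closed fibre lies over the open
  have hΩ : ∀ P : PrimeSpectrum A, P.asIdeal.comap (algebraMap B A) = m → f₀ P ∈ O := by
    intro P hP
    let L := P.asIdeal.ResidueField
    obtain ⟨w, hw⟩ := hfib L (fun r hr => by
      rw [IsScalarTower.algebraMap_apply B A L, Ideal.algebraMap_residueField_eq_zero]
      rw [show IsLocalRing.maximalIdeal B = m from rfl, ← hP] at hr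
      exact hr) ((algebraMap A L : A →* L).comp (MonoidAlgebra.of B M))
    have h1 : f₀ P ∈ Set.range k.left := by
      have h2 := congrArg (fun z => z.left) hw
      simp only [Over.comp_left, hpt] at h2
      have h3 : (MonoidAlgebra.lift B L M ((algebraMap A L : A →* L).comp (MonoidAlgebra.of B M))).toRingHom =
          algebraMap A L := by
        have : MonoidAlgebra.lift B L M ((algebraMap A L : A →* L).comp (MonoidAlgebra.of B M)) =
            IsScalarTower.toAlgHom B A L := by
          refine AlgHom.ext fun x => ?_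
          induction x using MonoidAlgebra.induction_linear with
          | zero => simp
          | add p q hp hq => rw [map_add, map_add, hp, hq]
          | single y r =>
            rw [MonoidAlgebra.lift_single, IsScalarTower.toAlgHom_apply, Algebra.smul_def,
              IsScalarTower.algebraMap_apply B A L, MonoidHom.comp_apply]
            change algebraMap A L (algebraMap B A r) * algebraMap A L (MonoidAlgebra.of B M y) = _
            rw [← map_mul]
            congr 1
            simp [A, MonoidAlgebra.coe_algebraMap, MonoidAlgebra.single_mul_single]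
        rw [this]; rfl
      rw [h3] at h2
      refine ⟨w.left (IsLocalRing.closedPoint L), ?_⟩
      have h4 := congrArg (fun z : Spec (CommRingCat.of L) ⟶ H.left => z (IsLocalRing.closedPoint L)) h2
      simp only [Scheme.Hom.comp_apply] at h4
      rw [h4]
      congr 1
      refine PrimeSpectrum.ext ?_
      show (IsLocalRing.maximalIdeal L).comap (algebraMap A L) = P.asIdeal
      rw [IsLocalRing.maximalIdeal_eq_bot]
      exact Ideal.ker_algebraMap_residueField P.asIdeal
    exact subset_coborder h1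
  -- a function congruent to one and vanishing outside the open
  obtain ⟨J₀, hJ₀⟩ : ∃ J₀ : Ideal A, PrimeSpectrum.zeroLocus (J₀ : Set A) = ((f₀ ⁻¹ᵁ O : (Spec (CommRingCat.of A)).Opens) : Set (Spec (CommRingCat.of A)))ᶜ :=
    ((PrimeSpectrum.isClosed_iff_zeroLocus_ideal (R := A) _).1 (f₀ ⁻¹ᵁ O).2.isClosed_compl).imp fun I h => h.symm
  have htop : J₀ ⊔ m.map (algebraMap B A) = ⊤ := by
    by_contra hne
    obtain ⟨P, hP, hle⟩ := Ideal.exists_le_maximal _ hne
    have h1 : (⟨P, hP.isPrime⟩ : PrimeSpectrum A) ∈ PrimeSpectrum.zeroLocus (J₀ : Set A) :=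
      fun x hx => hle (Submodule.mem_sup_left hx)
    rw [hJ₀] at h1
    have : (P.comap (algebraMap B A)).IsPrime := Ideal.comap_isPrime _ _
    refine h1 (hΩ ⟨P, hP.isPrime⟩ ?_)
    refine ((IsLocalRing.maximalIdeal.isMaximal B).eq_of_le (Ideal.IsPrime.ne_top this) ?_).symm
    intro r hr
    exact hle (Submodule.mem_sup_right (Ideal.mem_map_of_mem _ hr))
  obtain ⟨a, haJ, ν, hν, haν⟩ := Submodule.mem_sup.1 (htop ▸ Submodule.mem_top : (1 : A) ∈ J₀ ⊔ m.map _)
  have ha : IsOneMod a := by
    show a - 1 ∈ m.map (algebraMap B A)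
    rw [← haν, sub_add_cancel_left]
    exact neg_mem hν
  -- the open subset of the points where `a` is invertible
  let Aa := Localization.Away a
  have hrange : Set.range (Spec.map (CommRingCat.ofHom (algebraMap A Aa)) ≫ f₀) ⊆ Set.range O.ι := by
    rw [Scheme.Opens.range_ι]
    rintro _ ⟨Q, rfl⟩
    by_contra hout
    have h1 : Spec.map (CommRingCat.ofHom (algebraMap A Aa)) Q ∈ PrimeSpectrum.zeroLocus (J₀ : Set A) := by
      rw [hJ₀]; exact hout
    exact Q.2.ne_top (Ideal.eq_top_of_isUnit_mem _ (h1 haJ) (IsLocalization.Away.algebraMap_isUnit a))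
  let f := IsOpenImmersion.lift O.ι _ hrange
  have hf : f ≫ O.ι = Spec.map (CommRingCat.ofHom (algebraMap A Aa)) ≫ f₀ := IsOpenImmersion.lift_fac _ _ _
  obtain ⟨I, hIfg, hI⟩ := Locus.exists_ideal_factors kO f
  obtain ⟨t, ht⟩ := hIfg ‹_›
  choose num hnum using fun y : Aa => IsLocalization.Away.surj a y
  choose x hx using hnum
  let s : Finset A := t.image x
  have hunit : ∀ (C : Type u) [CommRing C] [Algebra B C] (χ : M →* C), IsUnit (ev χ a) →
      (Fac e k χ ↔ ∀ y ∈ s, ev χ y = 0) := by
    intro C _ _ χ hu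
    let φ := MonoidAlgebra.lift B C M χ
    let ψ : Aa →+* C := IsLocalization.Away.lift a (g := φ.toRingHom) hu
    have hψ : ∀ z, ψ (algebraMap A Aa z) = φ z := fun z => IsLocalization.Away.lift_eq a hu z
    have hsp : Spec.map (CommRingCat.ofHom ψ) ≫ f ≫ O.ι = (e.pt χ).left := by
      rw [hf, hpt, ← Spec.map_comp_assoc, ← CommRingCat.ofHom_comp]
      congr 3
      exact RingHom.ext hψ
    have hequiv : Fac e k χ ↔ ∃ w, w ≫ kO = Spec.map (CommRingCat.ofHom ψ) ≫ f := by
      constructor
      · rintro ⟨w, hw⟩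
        refine ⟨w.left, (cancel_mono O.ι).1 ?_⟩
        rw [Category.assoc, hkO, Category.assoc, hsp, ← Over.comp_left, hw]
      · rintro ⟨w, hw⟩
        have h1 : w ≫ k.left = (e.pt χ).left := by rw [← hkO, reassoc_of% hw, hsp]
        exact ⟨Over.homMk w (by rw [← Over.w k, reassoc_of% h1, Over.w (e.pt χ)]),
          Over.OverMorphism.ext h1⟩
    rw [hequiv, hI]
    have key : ∀ y ∈ t, ψ y = 0 ↔ φ (x y) = 0 := fun y _ => by
      rw [← hψ, ← hx y, map_mul, map_pow, IsUnit.mul_left_eq_zero ((show IsUnit (ψ (algebraMap A Aa a)) by rw [hψ]; exact hu).pow _)]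
    constructor
    · intro h z hz
      obtain ⟨y, hy, rfl⟩ := Finset.mem_image.1 hz
      exact (key y hy).1 (h y (ht ▸ Ideal.subset_span hy))
    · intro h z hz
      rw [← ht] at hz
      refine Submodule.span_induction (fun y hy => (key y hy).2 (h _ (Finset.mem_image_of_mem _ hy)))
        (map_zero ψ) (fun p q _ _ hp hq => by rw [map_add, hp, hq, add_zero])
        (fun r p _ hp => by rw [smul_eq_mul, map_mul, hp, mul_zero]) hz
  -- the content
  let c : Ideal B := Ideal.span ((s.biUnion fun y => y.coeff.support.image fun i => y.coeff i : Finset B) : Set B)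
  have hc : ∀ y ∈ s, ∀ i, y.coeff i ∈ c := by
    intro y hy i
    by_cases hi : y.coeff i = 0
    · rw [hi]; exact zero_mem _
    · exact Ideal.subset_span (Finset.mem_biUnion.2 ⟨y, hy,
        Finset.mem_image.2 ⟨i, Finsupp.mem_support_iff.2 hi, rfl⟩⟩)
  -- values in a reduction of the group algebra
  have hev : ∀ (I₀ : Ideal B) (z : A) (i : M),
      (ev (MonoidAlgebra.of (B ⧸ I₀) M) z).coeff i = Ideal.Quotient.mk I₀ (z.coeff i) := by
    intro I₀ z i
    induction z using MonoidAlgebra.induction_linear with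
    | zero => simp [ev]
    | add p q hp hq => simp only [ev, map_add, MonoidAlgebra.coeff_add, Finsupp.add_apply] at hp hq ⊢; rw [hp, hq]
    | single y r =>
      simp [ev, MonoidAlgebra.lift_single, MonoidAlgebra.coeff_single, Finsupp.single_apply, Algebra.smul_def,
        MonoidAlgebra.coe_algebraMap, MonoidAlgebra.single_mul_single, apply_ite (Ideal.Quotient.mk I₀)]
  have hkill : ∀ (I₀ : Ideal B) (C : Type u) [CommRing C] [Algebra (B ⧸ I₀) C] [Algebra B C]
      [IsScalarTower B (B ⧸ I₀) C], ∀ r ∈ I₀, algebraMap B C r = 0 := fun I₀ C _ _ _ _ r hr => by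
    rw [IsScalarTower.algebraMap_apply B (B ⧸ I₀) C, Ideal.Quotient.algebraMap_eq,
      Ideal.Quotient.eq_zero_iff_mem.2 hr, map_zero]
  have hcm : c ≤ m := by
    rw [Ideal.span_le]
    intro r hr
    obtain ⟨y, hy, hr⟩ := Finset.mem_biUnion.1 hr
    obtain ⟨i, -, rfl⟩ := Finset.mem_image.1 hr
    let C := MonoidAlgebra (B ⧸ m) M
    let χ₁ : M →* C := MonoidAlgebra.of (B ⧸ m) M
    have hν0 : ev χ₁ ν = 0 := by
      have hle : m.map (algebraMap B A) ≤ RingHom.ker (MonoidAlgebra.lift B C M χ₁) :=
        Ideal.map_le_iff_le_comap.2 fun r hr => by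
          rw [Ideal.mem_comap, RingHom.mem_ker, AlgHom.commutes]
          exact hkill m C r hr
      exact hle hν
    have hu : IsUnit (ev χ₁ a) := by
      have h1 : ev χ₁ a + ev χ₁ ν = 1 := by
        simp only [ev, ← map_add, haν, map_one]
      rw [hν0, add_zero] at h1
      rw [h1]; exact isUnit_one
    have h1 := (hunit C χ₁ hu).1 (hfib C (hkill m C) χ₁) y hy
    have h2 := hev m y i
    rw [h1] at h2
    exact Ideal.Quotient.eq_zero_iff_mem.1 (h2.symm.trans (by simp))
  have hall : ∀ (C : Type u) [CommRing C] [Algebra B C], (∀ r ∈ c, algebraMap B C r = 0) →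
      ∀ χ : M →* C, Fac e k χ := by
    refine fac_of_unit e k hmul ha c fun C _ _ hC χ hu => (hunit C χ hu).2 fun y hy => ?_
    rw [ev, MonoidAlgebra.lift_apply]
    refine Finset.sum_eq_zero fun i _ => ?_
    show y.coeff i • χ i = 0
    rw [Algebra.smul_def, hC _ (hc y hy i), zero_mul]
  have hcfg : c.FG := ⟨_, rfl⟩
  have hc0 : c = ⊥ := by
    refine Submodule.eq_bot_of_le_smul_of_le_jacobson_bot m c hcfg ?_ (IsLocalRing.maximalIdeal_le_jacobson _)
    rw [smul_eq_mul, Ideal.span_le]
    intro r hr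
    obtain ⟨y, hy, hr⟩ := Finset.mem_biUnion.1 hr
    obtain ⟨i, -, rfl⟩ := Finset.mem_image.1 hr
    let C := MonoidAlgebra (B ⧸ m * c) M
    let χ₁ : M →* C := MonoidAlgebra.of (B ⧸ m * c) M
    let C' := Localization.Away (ev χ₁ a)
    let π : C →ₐ[B] C' := IsScalarTower.toAlgHom B C C'
    have hu : IsUnit (ev ((π : C →* C').comp χ₁) a) := by
      rw [ev_comp]; exact IsLocalization.Away.algebraMap_isUnit (ev χ₁ a)
    have h1 := (hunit C' _ hu).1 (hstep c hcfg hcm hall C'
      (fun r hr => by rw [← π.commutes, hkill (m * c) C r hr, map_zero]) _) y hy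
    rw [ev_comp] at h1
    obtain ⟨⟨_, N, rfl⟩, hN⟩ := (IsLocalization.map_eq_zero_iff (.powers (ev χ₁ a)) C' _).1 h1
    -- `a` fixes the elements with coefficients in `c`
    have hyc : y ∈ c.map (algebraMap B A) := by
      rw [← MonoidAlgebra.sum_coeff_single y]
      refine Ideal.sum_mem _ fun i' _ => ?_
      rw [show MonoidAlgebra.single i' (y.coeff i') = MonoidAlgebra.single i' (1 : B) * algebraMap B A (y.coeff i') by
        simp [A, MonoidAlgebra.coe_algebraMap, MonoidAlgebra.single_mul_single]]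
      exact Ideal.mul_mem_left _ _ (Ideal.mem_map_of_mem _ (hc y hy i'))
    have hfix : ev χ₁ (ν * y) = 0 := by
      have hle : (m * c).map (algebraMap B A) ≤ RingHom.ker (MonoidAlgebra.lift B C M χ₁) :=
        Ideal.map_le_iff_le_comap.2 fun r hr => by
          rw [Ideal.mem_comap, RingHom.mem_ker, AlgHom.commutes]
          exact hkill (m * c) C r hr
      rw [Ideal.map_mul] at hle
      exact hle (Ideal.mul_mem_mul hν hyc)
    have hay : ev χ₁ a * ev χ₁ y = ev χ₁ y := by
      have h2 : a * y + ν * y = y := by rw [← add_mul, haν, _root_.one_mul]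
      have h3 := congrArg (ev χ₁) h2
      simp only [ev, map_add, map_mul] at h3 hfix ⊢
      rwa [hfix, add_zero] at h3
    have hy0 : ∀ n, ev χ₁ a ^ n * ev χ₁ y = ev χ₁ y := by
      intro n
      induction n with
      | zero => rw [pow_zero, _root_.one_mul]
      | succ n ih => rw [pow_succ, _root_.mul_assoc, hay, ih]
    rw [hy0] at hN
    have h2 := hev (m * c) y i
    rw [hN] at h2
    exact Ideal.Quotient.eq_zero_iff_mem.1 (h2.symm.trans (by simp))
  exact hall C (fun r hr => by rw [hc0, Ideal.mem_bot] at hr; rw [hr, map_zero]) χ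

end Groth.L25.NhdEq
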