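import Groth.Agent.L25.NhdEq.Local
import Groth.Agent.L25.Central
import Groth.Agent.L25.Locus.Normalizer
import Groth.Prelude.Def_SGA3x
import Mathlib.RingTheory.Localization.BaseChange
import Mathlib.RingTheory.Flat.Localization

/-!
# A subgroup containing a fibre and stable under thickening contains the neighbouring fibres
-/

set_option autoImplicit false
universe u

open CategoryTheory CategoryTheory.Limits MonoidalCategory CartesianMonoidalCategory MonObj GrpObj
open AlgebraicGeometry TensorProduct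

set_option backward.isDefEq.respectTransparency.types false

noncomputable section

namespace Groth.L25.NhdEq

open Groth.L25.Cocycle

variable {R : Type u} [CommRing R]

/-- the structure map of an algebra -/
abbrev jB (R B : Type u) [CommRing R] [CommRing B] [Algebra R B] :
    Spec (CommRingCat.of B) ⟶ Spec (CommRingCat.of R) :=
  Spec.map (CommRingCat.ofHom (algebraMap R B))

variable {H W : Over (Spec (CommRingCat.of R))}

/-- all points over `C` (an algebra over `B`) factor -/
def FacAll (k : W ⟶ H) (B C : Type u) [CommRing B] [Algebra R B] [CommRing C] [Algebra B C] : Prop :=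
  ∀ x : X (jB R B) C ⟶ H, ∃ w, w ≫ k = x

theorem exists_nhd [GrpObj H] (hH : SGA3x.IsMultTypeFT H) (k : W ⟶ H) [IsImmersion k.left]
    [LocallyOfFinitePresentation k.left]
    (hmul : ∀ (T : Over (Spec (CommRingCat.of R))) (a b : T ⟶ H),
      (∃ w, w ≫ k = a) → (∃ w, w ≫ k = b) → ∃ w, w ≫ k = a * b)
    (p : Ideal R) [p.IsPrime]
    (hfib : ∀ (B : Type u) [CommRing B] [IsLocalRing B] [Algebra R B],
      (IsLocalRing.maximalIdeal B).comap (algebraMap R B) = p →
      ∀ (C : Type u) [CommRing C] [Algebra B C],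
        (∀ r ∈ IsLocalRing.maximalIdeal B, algebraMap B C r = 0) → FacAll k B C)
    (hstep : ∀ (B : Type u) [CommRing B] [IsLocalRing B] [Algebra R B],
      (IsLocalRing.maximalIdeal B).comap (algebraMap R B) = p →
      ∀ c : Ideal B, c.FG → c ≤ IsLocalRing.maximalIdeal B →
      (∀ (C : Type u) [CommRing C] [Algebra B C], (∀ r ∈ c, algebraMap B C r = 0) → FacAll k B C) →
      ∀ (C : Type u) [CommRing C] [Algebra B C],
        (∀ r ∈ IsLocalRing.maximalIdeal B * c, algebraMap B C r = 0) → FacAll k B C) :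
    ∃ f ∉ p, ∀ (T : Over (Spec (CommRingCat.of R))) (x : T ⟶ H),
      Set.range T.hom ⊆ (PrimeSpectrum.basicOpen f : Set (PrimeSpectrum R)) → ∃ w, w ≫ k = x := by
  classical
  -- a chart over a local faithfully flat extension of the local ring
  obtain ⟨S', f, hflat, hsurj, -, hloc⟩ := id hH
  obtain ⟨z', hz'⟩ := hsurj.surj (⟨p, inferInstance⟩ : PrimeSpectrum R)
  obtain ⟨U, hzU, M, instM, hfg, ⟨es⟩⟩ := hloc z'
  letI := instM
  obtain ⟨_, ⟨D, hD, rfl⟩, hzD, hle⟩ := S'.isBasis_affineOpens.exists_subset_of_mem_open hzU U.2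
  obtain ⟨q, hq⟩ := hD.range_fromSpec.ge hzD
  have hr : Set.range hD.fromSpec ⊆ Set.range U.ι := by
    rw [Scheme.Opens.range_ι, hD.range_fromSpec]; exact hle
  obtain ⟨θ, hθ⟩ := Spec.map_surjective (hD.fromSpec ≫ f)
  letI : Algebra R Γ(S', D) := θ.hom.toAlgebra
  have hθ' : Spec.map (CommRingCat.ofHom (algebraMap R Γ(S', D))) = hD.fromSpec ≫ f := hθ
  let B := Localization.AtPrime q.asIdeal
  let e₀ : Chart (Spec.map (CommRingCat.ofHom (algebraMap R Γ(S', D)))) H (Multiplicative M) :=
    Chart.ofSplit (U.ι ≫ f) (IsOpenImmersion.lift _ _ hr)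
      (by rw [IsOpenImmersion.lift_fac_assoc, hθ']) es
  let e : Chart (jB R B) H (Multiplicative M) := e₀.restrict (algebraMap Γ(S', D) B) (by
    rw [← Spec.map_comp, ← CommRingCat.ofHom_comp, ← IsScalarTower.algebraMap_eq])
  have : Monoid.FG (Multiplicative M) :=
    AddMonoid.fg_iff_mul_fg.1 (AddGroup.fg_iff_addMonoid_fg.1 hfg)
  have hqp : q.asIdeal.comap (algebraMap R Γ(S', D)) = p := by
    have h1 : (Spec.map (CommRingCat.ofHom (algebraMap R Γ(S', D)))) q = (⟨p, inferInstance⟩ : PrimeSpectrum R) := by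
      rw [hθ', Scheme.Hom.comp_apply, hq, hz']
    exact congrArg PrimeSpectrum.asIdeal h1
  have hBp : (IsLocalRing.maximalIdeal B).comap (algebraMap R B) = p := by
    rw [IsScalarTower.algebraMap_eq R Γ(S', D) B, ← Ideal.comap_comap,
      show (IsLocalRing.maximalIdeal B).comap (algebraMap Γ(S', D) B) = q.asIdeal from
        IsLocalization.AtPrime.comap_maximalIdeal B q.asIdeal, hqp]
  have : Mono k := Over.mono_of_mono_left k
  have hallB : ∀ (C : Type u) [CommRing C] [Algebra B C], FacAll k B C := by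
    intro C _ _ x
    obtain ⟨χ, rfl⟩ := (e.bij C).2 x
    exact fac_of_local e k hmul (fun C _ _ hC χ => hfib B hBp C hC _)
      (fun c hcfg hc h C _ _ hC χ => hstep B hBp c hcfg hc (fun C' _ _ hC' x => by
        obtain ⟨χ', rfl⟩ := (e.bij C').2 x
        exact h C' hC' χ') C hC _) C χ
  -- the local ring
  let Rp := Localization.AtPrime p
  have hu : ∀ y : p.primeCompl, IsUnit (algebraMap R B y) := fun y => by
    by_contra hn
    exact y.2 (hBp.le (show (y : R) ∈ (IsLocalRing.maximalIdeal B).comap (algebraMap R B) from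
      (IsLocalRing.mem_maximalIdeal _).2 hn))
  letI : Algebra Rp B := (IsLocalization.lift (M := p.primeCompl) hu).toAlgebra
  haveI : IsScalarTower R Rp B := IsScalarTower.of_algebraMap_eq fun r => (IsLocalization.lift_eq hu r).symm
  have : Module.Flat R B := by
    have : Flat (Spec.map (CommRingCat.ofHom (algebraMap R Γ(S', D)))) := by rw [hθ']; infer_instance
    rw [HasRingHomProperty.Spec_iff (P := @Flat)] at this
    have : Module.Flat R Γ(S', D) := RingHom.flat_algebraMap_iff.1 this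
    exact Module.Flat.trans R Γ(S', D) B
  have : Module.Flat Rp B := (Module.flat_iff_of_isLocalization Rp p.primeCompl B).2 ‹_›
  have : IsLocalHom (algebraMap Rp B) := by
    constructor
    intro y hy
    obtain ⟨a, s, rfl⟩ := IsLocalization.exists_mk'_eq p.primeCompl y
    rw [RingHom.algebraMap_toAlgebra, IsLocalization.lift_mk'] at hy
    have h1 : IsUnit (algebraMap R B a) := isUnit_of_mul_isUnit_left hy
    refine (IsLocalization.AtPrime.isUnit_mk'_iff Rp p a s).2 fun ha => ?_
    rw [← hBp] at ha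
    exact (IsLocalRing.mem_maximalIdeal _).1 ha h1
  have : Module.FaithfullyFlat Rp B := Module.FaithfullyFlat.of_flat_of_isLocalHom
  -- the universal point over the local ring
  have := Central.isAffineHom_of_multTypeFT hH
  have : IsAffine H.left := isAffine_of_isAffineHom H.hom
  obtain ⟨θH, hθH⟩ := Spec.map_surjective (H.left.isoSpec.inv ≫ H.hom)
  let A : Type u := Γ(H.left, ⊤)
  letI : Algebra R A := θH.hom.toAlgebra
  let g₀ : Spec (CommRingCat.of A) ⟶ H.left := H.left.isoSpec.inv
  have hg₀ : g₀ ≫ H.hom = Spec.map (CommRingCat.ofHom (algebraMap R A)) := hθH.symm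
  let Ap := Rp ⊗[R] A
  let inc : A →ₐ[R] Ap := Algebra.TensorProduct.includeRight
  let xp : Spec (CommRingCat.of Ap) ⟶ H.left := Spec.map (CommRingCat.ofHom inc.toRingHom) ≫ g₀
  obtain ⟨wp, hwp⟩ : ∃ w, w ≫ k.left = xp := by
    let E := Ap ⊗[Rp] B
    let iA : Ap →+* E := Algebra.TensorProduct.includeLeftRingHom
    letI : Algebra B E := RingHom.toAlgebra (R := B) (S := E) (Algebra.TensorProduct.includeRight : B →ₐ[Rp] E).toRingHom
    have hsq : ∀ r, algebraMap B E (algebraMap R B r) = iA (inc (algebraMap R A r)) := fun r => by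
      rw [AlgHom.commutes, IsScalarTower.algebraMap_apply R Rp B, IsScalarTower.algebraMap_apply R Rp Ap]
      exact (Algebra.TensorProduct.includeRight : B →ₐ[Rp] E).commutes (algebraMap R Rp r)
    obtain ⟨w, hw⟩ := hallB E (Over.homMk (Spec.map (CommRingCat.ofHom (R := Ap) (S := E) iA) ≫ xp) (by
      show (Spec.map _ ≫ Spec.map _ ≫ g₀) ≫ H.hom = Spec.map _ ≫ Spec.map _
      rw [Category.assoc, Category.assoc, hg₀, ← Spec.map_comp, ← Spec.map_comp, ← Spec.map_comp,
        ← CommRingCat.ofHom_comp, ← CommRingCat.ofHom_comp, ← CommRingCat.ofHom_comp]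
      congr 2
      exact RingHom.ext fun r => (hsq r).symm))
    have : Module.FaithfullyFlat Ap E := inferInstance
    obtain ⟨hf1, hs1⟩ := RingHom.FaithfullyFlat.iff_flat_and_comap_surjective.1
      ((RingHom.faithfullyFlat_algebraMap_iff (R := Ap) (S := E)).2 this)
    have : Flat (Spec.map (CommRingCat.ofHom (R := Ap) (S := E) iA)) := by
      rw [HasRingHomProperty.Spec_iff (P := @Flat)]
      exact hf1
    have : Surjective (Spec.map (CommRingCat.ofHom (R := Ap) (S := E) iA)) := ⟨hs1⟩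
    have : IsAffineHom (Spec.map (CommRingCat.ofHom (R := Ap) (S := E) iA)) := isAffineHom_of_isAffine _
    exact Locus.factors_of_flat_surjective k.left xp (Spec.map (CommRingCat.ofHom (R := Ap) (S := E) iA)) w.left
      (congrArg (fun m => m.left) hw)
  -- spreading out
  let O := k.left.coborderRange
  let kO := k.left.liftCoborder
  have hkO : kO ≫ O.ι = k.left := Scheme.Hom.liftCoborder_ι _
  have : LocallyOfFinitePresentation kO := by
    have : LocallyOfFinitePresentation (kO ≫ O.ι) := by rw [hkO]; infer_instance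
    exact Groth.L20.locallyOfFinitePresentation_of_comp kO O.ι
  obtain ⟨J₀, hJ₀⟩ : ∃ J₀ : Ideal A, PrimeSpectrum.zeroLocus (J₀ : Set A) =
      ((g₀ ⁻¹ᵁ O : (Spec (CommRingCat.of A)).Opens) : Set (Spec (CommRingCat.of A)))ᶜ :=
    ((PrimeSpectrum.isClosed_iff_zeroLocus_ideal (R := A) _).1 (g₀ ⁻¹ᵁ O).2.isClosed_compl).imp fun I h => h.symm
  have hmap : J₀.map inc.toRingHom = ⊤ := by
    by_contra hne
    obtain ⟨Q, hQ, hQle⟩ := Ideal.exists_le_maximal _ hne
    let Q' : Spec (CommRingCat.of Ap) := ⟨Q, hQ.isPrime⟩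
    have h1 : Spec.map (CommRingCat.ofHom inc.toRingHom) Q' ∈ PrimeSpectrum.zeroLocus (J₀ : Set A) :=
      fun y hy => hQle (Ideal.mem_map_of_mem _ hy)
    rw [hJ₀] at h1
    refine h1 ?_
    show xp Q' ∈ O
    rw [← hwp, Scheme.Hom.comp_apply]
    exact subset_coborder ⟨_, rfl⟩
  let mkA : A →ₗ[R] Ap := TensorProduct.mk R Rp A 1
  obtain ⟨f₀, hf₀p, hf₀J⟩ : ∃ f₀ ∉ p, algebraMap R A f₀ ∈ J₀ := by
    have h1 : ∀ z ∈ J₀.map inc.toRingHom, ∀ y : Ap, ∃ s : p.primeCompl, ∃ i ∈ J₀,
        (s : R) • (y * z) = mkA i := by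
      intro z hz
      refine Submodule.span_induction (fun w hw y => ?_) (fun y => ⟨1, 0, zero_mem _, by simp⟩)
        (fun a b _ _ ha hb y => ?_) (fun a w _ hw y => ?_) hz
      · obtain ⟨i, hi, rfl⟩ := hw
        obtain ⟨⟨c, s⟩, hs⟩ := IsLocalizedModule.surj p.primeCompl mkA y
        refine ⟨s, c * i, Ideal.mul_mem_left _ _ hi, ?_⟩
        rw [← smul_mul_assoc, show (s : R) • y = mkA c from hs]
        exact (map_mul inc c i).symm
      · obtain ⟨s, i, hi, h⟩ := ha y
        obtain ⟨s', i', hi', h'⟩ := hb y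
        refine ⟨s * s', (s' : R) • i + (s : R) • i',
          add_mem (Submodule.smul_of_tower_mem _ _ hi) (Submodule.smul_of_tower_mem _ _ hi'), ?_⟩
        rw [mul_add, smul_add, map_add, map_smul, map_smul, ← h, ← h', smul_smul, smul_smul,
          Submonoid.coe_mul, mul_comm (s' : R)]
      · obtain ⟨s, i, hi, h⟩ := hw (y * a)
        exact ⟨s, i, hi, by rw [smul_eq_mul, ← _root_.mul_assoc, h]⟩
    obtain ⟨s, i, hi, h⟩ := h1 1 (hmap ▸ Submodule.mem_top) 1
    rw [_root_.mul_one, show (1 : Ap) = mkA 1 from rfl, ← map_smul] at h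
    obtain ⟨s', hs'⟩ := (IsLocalizedModule.eq_iff_exists p.primeCompl mkA).1 h
    refine ⟨(s' : R) * s, (s' * s).2, ?_⟩
    rw [Submonoid.smul_def, Submonoid.smul_def, smul_smul, Algebra.smul_def, Algebra.smul_def,
      _root_.mul_one] at hs'
    rw [hs']
    exact Ideal.mul_mem_left _ _ hi
  let Aa := Localization.Away (algebraMap R A f₀)
  have hrange : Set.range (Spec.map (CommRingCat.ofHom (algebraMap A Aa)) ≫ g₀) ⊆ Set.range O.ι := by
    rw [Scheme.Opens.range_ι]
    rintro _ ⟨Q, rfl⟩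
    by_contra hout
    have h1 : Spec.map (CommRingCat.ofHom (algebraMap A Aa)) Q ∈ PrimeSpectrum.zeroLocus (J₀ : Set A) := by
      rw [hJ₀]; exact hout
    exact Q.2.ne_top (Ideal.eq_top_of_isUnit_mem _ (h1 hf₀J)
      (IsLocalization.Away.algebraMap_isUnit (algebraMap R A f₀)))
  let g := IsOpenImmersion.lift O.ι _ hrange
  have hg : g ≫ O.ι = Spec.map (CommRingCat.ofHom (algebraMap A Aa)) ≫ g₀ := IsOpenImmersion.lift_fac _ _ _
  obtain ⟨I, hIfg, hI⟩ := Locus.exists_ideal_factors kO g
  obtain ⟨t, ht⟩ := hIfg ‹_›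
  have huf : IsUnit (inc (algebraMap R A f₀)) := by
    rw [AlgHom.commutes, IsScalarTower.algebraMap_apply R Rp Ap]
    exact (IsLocalization.map_units Rp (⟨f₀, hf₀p⟩ : p.primeCompl)).map _
  let φ : Aa →+* Ap := IsLocalization.Away.lift (algebraMap R A f₀) (g := inc.toRingHom) huf
  have hφ0 : ∀ y ∈ I, φ y = 0 := by
    refine (hI Ap φ).1 ⟨wp, (cancel_mono O.ι).1 ?_⟩
    rw [Category.assoc, hkO, hwp, Category.assoc, hg, ← Spec.map_comp_assoc, ← CommRingCat.ofHom_comp,
      IsLocalization.Away.lift_comp]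
  have hkill : ∀ y ∈ I, ∃ s : p.primeCompl, algebraMap A Aa (algebraMap R A s) * y = 0 := by
    intro y hy
    obtain ⟨n, a, hya⟩ := IsLocalization.Away.surj (algebraMap R A f₀) y
    have h1 := congrArg φ hya
    rw [map_mul, hφ0 y hy, zero_mul, IsLocalization.Away.lift_eq] at h1
    obtain ⟨s, hs⟩ := (IsLocalizedModule.eq_zero_iff p.primeCompl mkA).1 h1.symm
    refine ⟨s, ?_⟩
    rw [Submonoid.smul_def, Algebra.smul_def] at hs
    have h2 := congrArg (algebraMap A Aa (algebraMap R A s) * ·) hya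
    simp only [← _root_.mul_assoc, ← map_mul, hs, map_zero] at h2
    exact (IsUnit.mul_left_eq_zero ((IsLocalization.Away.algebraMap_isUnit (S := Aa) (algebraMap R A f₀)).pow n)).1
      h2
  choose s hs using hkill
  let F : R := f₀ * ∏ y : t, (s y.1 (ht ▸ Ideal.subset_span y.2) : R)
  refine ⟨F, fun hF => ?_, fun T x hT => ?_⟩
  · rcases Ideal.IsPrime.mem_or_mem inferInstance hF with h | h
    · exact hf₀p h
    · obtain ⟨y, -, hy⟩ := (Ideal.IsPrime.prod_mem_iff).1 h
      exact (s y.1 (ht ▸ Ideal.subset_span y.2)).2 hy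
  obtain ⟨w, hw⟩ := Locus.factors_of_cover k.left x.left fun z => by
    let P := T.left.affineCover.X (T.left.affineCover.idx z)
    let o : Spec Γ(P, ⊤) ⟶ T.left := P.isoSpec.inv ≫ T.left.affineCover.f (T.left.affineCover.idx z)
    refine ⟨_, o, inferInstance, ?_, ?_⟩
    · obtain ⟨y, hy⟩ := T.left.affineCover.covers z
      obtain ⟨y', rfl⟩ := P.isoSpec.inv.surjective y
      exact ⟨y', hy⟩
    let C : Type u := Γ(P, ⊤)
    obtain ⟨θC, hθC⟩ := Spec.map_surjective (o ≫ x.left ≫ H.left.isoSpec.hom)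
    have hx : Spec.map θC ≫ g₀ = o ≫ x.left := by
      rw [hθC]
      simp [g₀]
    have huF : IsUnit (θC.hom (algebraMap R A F)) := by
      by_contra hn
      obtain ⟨mC, hmC, hFm⟩ := exists_max_ideal_of_mem_nonunits hn
      have h1 := hT ⟨o ⟨mC, hmC.isPrime⟩, rfl⟩
      rw [show T.hom = x.left ≫ H.hom from (Over.w x).symm, ← Scheme.Hom.comp_apply, reassoc_of% hx.symm,
        hg₀] at h1
      exact h1 hFm
    rw [map_mul, map_mul, IsUnit.mul_iff] at huF
    let ψ : Aa →+* C := IsLocalization.Away.lift (algebraMap R A f₀) (g := θC.hom) huF.1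
    obtain ⟨w, hw⟩ := (hI C ψ).2 fun y hy => by
      rw [← ht] at hy
      refine Submodule.span_induction (fun y hy => ?_) (map_zero ψ)
        (fun a b _ _ ha hb => by rw [map_add, ha, hb, add_zero])
        (fun r a _ ha => by rw [smul_eq_mul, map_mul, ha, mul_zero]) hy
      have h1 := congrArg ψ (hs y (ht ▸ Ideal.subset_span hy))
      rw [map_mul, map_zero, IsLocalization.Away.lift_eq] at h1
      have h2 : IsUnit (θC.hom (algebraMap R A (s y (ht ▸ Ideal.subset_span hy)))) := by
        rw [map_prod, map_prod] at huF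
        exact isUnit_of_dvd_unit (Finset.dvd_prod_of_mem
          (fun y : t => θC.hom (algebraMap R A (s y.1 (ht ▸ Ideal.subset_span y.2) : R)))
          (Finset.mem_univ ⟨y, hy⟩)) huF.2
      exact h2.mul_right_eq_zero.1 h1
    refine ⟨w, ?_⟩
    rw [← hkO, reassoc_of% hw, hg, ← Spec.map_comp_assoc, ← CommRingCat.ofHom_comp,
      IsLocalization.Away.lift_comp]
    exact hx
  exact ⟨Over.homMk w (by rw [← Over.w k, reassoc_of% hw, Over.w x]), Over.OverMorphism.ext hw⟩

end Groth.L25.NhdEq
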